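import Mathlib
import Groth.Prelude.Def_AlgSt4
import Groth.Prelude.Def_AlgSpCov
import Groth.Agent.Lib.Helper2.AlgSt.LocQ.FppfLift

/-!
# A stack representable by algebraic spaces over an algebraic stack is algebraic (helper2)
-/

set_option autoImplicit false
open CategoryTheory CategoryTheory.Functor CategoryTheory.Limits AlgebraicGeometry Opposite

universe u

namespace Groth.Agent.Helper2.AlgStLib.Substack

open Groth.Agent.Helper2 Groth.Agent.Helper2.FibCatLib Groth.Agent.Helper2.StkLib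
open Groth.Agent.Helper2.AlgSpBasic Groth.Agent.Helper2.EtaleLocal
open Groth.Agent.Helper2.AlgStLib Groth.Agent.Helper2.AlgStLib.Pts
open Groth.Agent.Helper2.AlgStLib.LocQ

variable {S : Scheme.{u}} {𝒰 𝒳 : BasedCategory.{u, u + 1} (Over S)}

/-- Let `f : 𝒰 ⟶ 𝒳` be representable by algebraic spaces with `𝒳` an algebraic stack and `𝒰` a
stack in groupoids.  Then `𝒰` is an algebraic stack. -/
theorem isAlgStack_of_repByAlgSp1 (K : Precoverage Scheme.{u}) (h𝒳 : AlgSt.IsAlgStack K 𝒳)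
    (h𝒰 : Stk.IsStack (QuotSh.J K S) 𝒰) (f : 𝒰 ⥤ᵇ 𝒳) (hf : AlgSt.RepByAlgSp1 f) :
    AlgSt.IsAlgStack K 𝒰 := by
  refine ⟨h𝒰, ?_, ?_⟩
  · -- the diagonal
    have h1 : AlgSt.RepByAlgSpWith ⊤ (FibCat.diag f) :=
      repByAlgSpWith_mono (fun _ _ _ _ => trivial) (FibCat.diag f) (isMono_diag f hf)
    have h2 : AlgSt.RepByAlgSpWith ⊤ (FibCat.diag (FibCat.toSelf 𝒳)) :=
      (repByAlgSp1_iff_top _).1 h𝒳.diag
    have h3 := repByAlgSpWith_diag_comp h𝒰.1 h𝒳.isStack.1 ⊤ stableBC_top stableComp_top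
      isLocalOnBase_fppf_top f (FibCat.toSelf 𝒳) h1 h2
    rw [comp_toSelf] at h3
    exact (repByAlgSp1_iff_top _).2 h3
  · -- the atlas
    obtain ⟨X, c, hc1, hc2⟩ := h𝒳.atlas
    obtain ⟨G, e, he⟩ := hf X c
    obtain ⟨Y, a, ha1, ha2⟩ := (hasAtlas_ofSp G).2
    have hfY : FibCat.IsFibGrpd (FibCat.overCat Y).p := isFibGrpd_overCat Y
    have hfG : FibCat.IsFibGrpd (AlgSt.ofSp G.obj).p := Stk.isFibGrpd_ofPsh G.obj.obj
    have hfP : FibCat.IsFibGrpd (FibCat.fp c f).p :=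
      isFibGrpd_fp c f (isFibGrpd_overCat X) h𝒰.1 h𝒳.isStack.1
    have hpr1 : Sm (FibCat.fpSnd c f) := repByAlgSpWith_fpSnd _ c f hc1
    have hpr2 : Sj (FibCat.fpSnd c f) := repByAlgSpWith_fpSnd _ c f hc2
    have hae1 : Sm (BasedFunctor.comp a e) := (repByAlgSpWith_comp_equiv _ a e he).2 ha1
    have hae2 : Sj (BasedFunctor.comp a e) := (repByAlgSpWith_comp_equiv _ a e he).2 ha2
    exact ⟨Y, BasedFunctor.comp (BasedFunctor.comp a e) (FibCat.fpSnd c f),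
      sm_comp hfY hfP _ _ hae1 hpr1, sj_comp hfY hfP _ _ hae2 hpr2⟩

end Groth.Agent.Helper2.AlgStLib.Substack
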