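import Mathlib
import Groth.Prelude.Def_AlgSt4
import Groth.Agent.Lib.Helper2.FibCat.EquivCrit
import Groth.Agent.Lib.Helper2.Stk.LocAut
import Groth.Agent.Lib.Helper2.FibCat.OverFun

/-!
# Fibre products with the inclusion of a strictly full subcategory (helper2)
-/

set_option autoImplicit false
open CategoryTheory CategoryTheory.Functor CategoryTheory.Limits AlgebraicGeometry Opposite

universe w₂ v₂ w v u

namespace Groth.Agent.Helper2.AlgStLib.Substack

open Groth.Agent.Helper2 Groth.Agent.Helper2.FibCatLib Groth.Agent.Helper2.StkLib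

variable {S : Scheme.{u}}

section Corestrict

variable {𝒜 : BasedCategory.{v₂, w₂} (Over S)} {𝒳 : BasedCategory.{v, w} (Over S)}

/-- Corestriction of a functor over the base to a full subcategory containing its image. -/
def corestrict (H : 𝒜 ⥤ᵇ 𝒳) (Q : 𝒳.obj → Prop) (hH : ∀ a, Q (H.obj a)) :
    𝒜 ⥤ᵇ AlgSt.fullSub 𝒳 Q where
  toFunctor := ObjectProperty.lift Q H.toFunctor hH
  w := H.w

theorem corestrict_comp (H : 𝒜 ⥤ᵇ 𝒳) (Q : 𝒳.obj → Prop) (hH : ∀ a, Q (H.obj a)) :
    BasedFunctor.comp (corestrict H Q hH) (AlgSt.subIncl 𝒳 Q) = H := rfl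

instance (Q : 𝒳.obj → Prop) : (AlgSt.subIncl 𝒳 Q).toFunctor.Full :=
  inferInstanceAs (ObjectProperty.ι Q).Full

instance (Q : 𝒳.obj → Prop) : (AlgSt.subIncl 𝒳 Q).toFunctor.Faithful :=
  inferInstanceAs (ObjectProperty.ι Q).Faithful

end Corestrict

section FP1

variable {𝒯 : BasedCategory.{v₂, w₂} (Over S)} {𝒳 : BasedCategory.{v, w} (Over S)}
  (t : 𝒯 ⥤ᵇ 𝒳) (Q : 𝒳.obj → Prop)

/-- The comparison functor from the full subcategory of `𝒯` cut out by `Q ∘ t` to the 2-fibre
product of `t` with the inclusion of the full subcategory of `𝒳` cut out by `Q`. -/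
def fpSubCmp : AlgSt.fullSub 𝒯 (fun A => Q (t.obj A)) ⥤ᵇ FibCat.fp t (AlgSt.subIncl 𝒳 Q) :=
  FibCat.fpLift (AlgSt.subIncl 𝒯 (fun A => Q (t.obj A)))
    (corestrict (BasedFunctor.comp (AlgSt.subIncl 𝒯 (fun A => Q (t.obj A))) t) Q
      (fun A => A.property)) (Iso.refl _)

theorem fpSubCmp_fst : BasedFunctor.comp (fpSubCmp t Q) (FibCat.fpFst t (AlgSt.subIncl 𝒳 Q)) =
    AlgSt.subIncl 𝒯 (fun A => Q (t.obj A)) := rfl

instance : (fpSubCmp t Q).toFunctor.Faithful where
  map_injective {A B} m m' h := by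
    have h1 : ((fpSubCmp t Q).toFunctor.map m).hom.fst = ((fpSubCmp t Q).toFunctor.map m').hom.fst :=
      by rw [h]
    exact ObjectProperty.hom_ext _ h1

instance : (fpSubCmp t Q).toFunctor.Full where
  map_surjective {A B} m := by
    refine ⟨ObjectProperty.homMk m.hom.fst, ?_⟩
    apply ObjectProperty.hom_ext
    apply CategoricalPullback.hom_ext
    · rfl
    · have hw := m.hom.w
      apply ObjectProperty.hom_ext
      change t.map m.hom.fst = m.hom.snd.hom
      have hw' : t.map m.hom.fst ≫ 𝟙 _ = 𝟙 _ ≫ m.hom.snd.hom := hw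
      rw [Category.comp_id, Category.id_comp] at hw'
      exact hw'

/-- The 2-fibre product with the inclusion of a strictly full subcategory is the full subcategory
cut out by the pulled back predicate. -/
theorem fpSubCmp_isEquivOver (hQ : ObjectProperty.IsClosedUnderIsomorphisms Q) :
    FibCat.IsEquivOver (fpSubCmp t Q) := by
  apply isEquivOver_of_fullyFaithful_of_exists_iso
  intro Z
  have hQA : Q (t.obj Z.obj.fst) := hQ.of_iso Z.obj.iso.symm Z.obj.snd.property
  refine ⟨⟨Z.obj.fst, hQA⟩, ?_, ?_⟩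
  · refine { hom := fpMkHom _ _ (𝟙 _) (ObjectProperty.homMk Z.obj.iso.hom) ?_
             inv := fpMkHom _ _ (𝟙 _) (ObjectProperty.homMk Z.obj.iso.inv) ?_
             hom_inv_id := ?_
             inv_hom_id := ?_ }
    · change t.map (𝟙 _) ≫ Z.obj.iso.hom = 𝟙 _ ≫ Z.obj.iso.hom
      rw [show t.map (𝟙 Z.obj.fst) = 𝟙 _ from t.toFunctor.map_id _]
    · change t.map (𝟙 _) ≫ 𝟙 _ = Z.obj.iso.hom ≫ Z.obj.iso.inv
      rw [show t.map (𝟙 Z.obj.fst) = 𝟙 _ from t.toFunctor.map_id _, Category.id_comp,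
        Iso.hom_inv_id]
    · apply ObjectProperty.hom_ext
      apply CategoricalPullback.hom_ext
      · exact Category.id_comp _
      · apply ObjectProperty.hom_ext
        exact Z.obj.iso.hom_inv_id
    · apply ObjectProperty.hom_ext
      apply CategoricalPullback.hom_ext
      · exact Category.id_comp _
      · apply ObjectProperty.hom_ext
        exact Z.obj.iso.inv_hom_id
  · apply fp_isHomLift_of_fst
    exact IsHomLift.id (p := 𝒯.p) rfl

end FP1

section FP2

variable {U W' : Over S} (j : W' ⟶ U) [Mono j] (R : (FibCat.overCat U).obj → Prop)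
  (hR : ∀ A : Over U, R A ↔ ∃ A' : A.left ⟶ W', A' ≫ j = A.hom)

/-- The slice over a subobject `W' ⟶ U`, as the full subcategory of the slice over `U` on the
arrows factoring through `W'`. -/
def overSubCmp : FibCat.overCat W' ⥤ᵇ AlgSt.fullSub (FibCat.overCat U) R :=
  corestrict (AlgSt.overMap j) R (fun A => (hR _).2 ⟨A.hom, rfl⟩)

theorem overSubCmp_comp : BasedFunctor.comp (overSubCmp j R hR)
    (AlgSt.subIncl (FibCat.overCat U) R) = AlgSt.overMap j := rfl

instance : (overSubCmp j R hR).toFunctor.Faithful where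
  map_injective {A B} m m' h := by
    have h1 : ((overSubCmp j R hR).toFunctor.map m).hom.left =
        ((overSubCmp j R hR).toFunctor.map m').hom.left := by rw [h]
    exact Over.OverMorphism.ext h1

instance : (overSubCmp j R hR).toFunctor.Full where
  map_surjective {A B} m := by
    have hw : m.hom.left ≫ (B.hom ≫ j) = A.hom ≫ j := Over.w m.hom
    have hw' : m.hom.left ≫ B.hom = A.hom := by
      rw [← cancel_mono j, Category.assoc]
      exact hw
    refine ⟨Over.homMk m.hom.left hw', ?_⟩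
    apply ObjectProperty.hom_ext
    apply Over.OverMorphism.ext
    rfl

theorem overSubCmp_isEquivOver : FibCat.IsEquivOver (overSubCmp j R hR) := by
  apply isEquivOver_of_fullyFaithful_of_exists_iso
  intro Z
  obtain ⟨A', hA'⟩ := (hR Z.obj).1 Z.property
  have hcomm : (Iso.refl Z.obj.left).hom ≫ Z.obj.hom = A' ≫ j := by
    rw [Iso.refl_hom, Category.id_comp, hA']
  let i : (Over.map j).obj (Over.mk A') ≅ Z.obj := Over.isoMk (Iso.refl _) hcomm
  refine ⟨Over.mk A', ObjectProperty.isoMk _ i, ?_⟩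
  have h : (Over.forget U).IsHomLift (𝟙 Z.obj.left) i.hom :=
    OverFun.over_isHomLift_id_of_left_eq _ rfl rfl
  exact (BasedFunctor.isHomLift_iff (AlgSt.subIncl (FibCat.overCat U) R) _ _).1 h

end FP2

end Groth.Agent.Helper2.AlgStLib.Substack
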