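import Mathlib
import Groth.Prelude.Def_AlgSt4
import Groth.Prelude.Def_AlgSpCov
import Groth.Agent.Lib.Helper2.AlgSt.LocQ.FppfLift

/-!
# Open immersions of algebraic stacks on points (helper2)
-/

set_option autoImplicit false
open CategoryTheory CategoryTheory.Functor CategoryTheory.Limits AlgebraicGeometry Opposite

universe u

namespace Groth.Agent.Helper2.AlgStLib.Substack

open Groth.Agent.Helper2 Groth.Agent.Helper2.FibCatLib Groth.Agent.Helper2.StkLib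
open Groth.Agent.Helper2.AlgSpBasic Groth.Agent.Helper2.EtaleLocal
open Groth.Agent.Helper2.AlgStLib Groth.Agent.Helper2.AlgStLib.Pts
open Groth.Agent.Helper2.AlgStLib.LocQ

variable {S : Scheme.{u}} {𝒳 𝒴 : BasedCategory.{u, u + 1} (Over S)}

/-- An open immersion of algebraic stacks is flat. -/
theorem locQ_flat_of_isOpenImm (h𝒳 : AlgSt.IsAlgStack Scheme.fppfPrecoverage 𝒳)
    (h𝒴 : AlgSt.IsAlgStack Scheme.fppfPrecoverage 𝒴) (f : 𝒳 ⥤ᵇ 𝒴) (hf : AlgSt.IsOpenImm f) :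
    AlgSt.LocQ (AlgSp.LocP @Flat) f := by
  have h2 : AlgSt.RepByAlgSpWith (AlgSp.LocP @Flat) f :=
    repByAlgSpWith_mono' f (fun F _ m hm =>
      locP_of_repWith @Flat F.property.diag m (repWith_mono
        (fun _ _ g hg => by haveI : IsOpenImmersion g := hg; infer_instance) hm)) hf
  exact locQ_locP_of_repByAlgSpWith @Flat isSmoothLocalST_locP_flat h𝒳 h𝒴 f h2

/-- An open immersion of algebraic stacks is open on points. -/
theorem isOpenMor_of_isOpenImm (h𝒳 : AlgSt.IsAlgStack Scheme.fppfPrecoverage 𝒳)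
    (h𝒴 : AlgSt.IsAlgStack Scheme.fppfPrecoverage 𝒴) (f : 𝒳 ⥤ᵇ 𝒴) (hf : AlgSt.IsOpenImm f) :
    AlgSt.IsOpenMor f :=
  isOpenMor_of_flat_of_lfp h𝒳 h𝒴 f (locQ_flat_of_isOpenImm h𝒳 h𝒴 f hf)
    (locQ_lfp_of_isOpenImm h𝒳 h𝒴 f hf)

theorem isOpen_range_of_isOpenImm (h𝒳 : AlgSt.IsAlgStack Scheme.fppfPrecoverage 𝒳)
    (h𝒴 : AlgSt.IsAlgStack Scheme.fppfPrecoverage 𝒴) (f : 𝒳 ⥤ᵇ 𝒴) (hf : AlgSt.IsOpenImm f) :
    IsOpen (Set.range (AlgSt.Points.map f)) :=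
  (isOpenMor_of_isOpenImm h𝒳 h𝒴 f hf).isOpen_range

end Groth.Agent.Helper2.AlgStLib.Substack
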