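import Mathlib
import Groth.Prelude.Def_AlgSt4
import Groth.Prelude.Def_AlgSpCov
import Groth.Agent.Lib.Helper2.AlgSt.Substack.FullSubFp
import Groth.Agent.Lib.Helper2.AlgSt.Substack.AlgOfRep
import Groth.Agent.Lib.Helper2.AlgSt.Substack.OpenPts
import Groth.Agent.Lib.Helper2.Stk.FullSub

/-!
# Open substacks and open subsets of the space of points (helper2)
-/

set_option autoImplicit false
open CategoryTheory CategoryTheory.Functor CategoryTheory.Limits AlgebraicGeometry Opposite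

universe u

namespace Groth.Agent.Helper2.AlgStLib.Substack

open Groth.Agent.Helper2 Groth.Agent.Helper2.FibCatLib Groth.Agent.Helper2.StkLib
open Groth.Agent.Helper2.AlgSpBasic Groth.Agent.Helper2.EtaleLocal
open Groth.Agent.Helper2.AlgStLib Groth.Agent.Helper2.AlgStLib.Pts
open Groth.Agent.Helper2.AlgStLib.LocQ

variable {S : Scheme.{u}} {𝒳 : BasedCategory.{u, u + 1} (Over S)}

/-- The objects all of whose field-valued points lie in `T`. -/
def PtsIn (T : Set (AlgSt.Points 𝒳)) : 𝒳.obj → Prop :=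
  fun a => ∀ p : AlgSt.FPt 𝒳, Nonempty (p.obj ⟶ a) → AlgSt.Points.mk p ∈ T

theorem ptsIn_of_hom {T : Set (AlgSt.Points 𝒳)} {a b : 𝒳.obj} (φ : b ⟶ a) (h : PtsIn T a) :
    PtsIn T b := fun p ⟨m⟩ => h p ⟨m ≫ φ⟩

theorem isClosedUnderIsomorphisms_ptsIn (T : Set (AlgSt.Points 𝒳)) :
    ObjectProperty.IsClosedUnderIsomorphisms (PtsIn T) :=
  ⟨fun e h => ptsIn_of_hom e.inv h⟩

theorem ptsIn_mono {T T' : Set (AlgSt.Points 𝒳)} (h : T ⊆ T') (a : 𝒳.obj) (ha : PtsIn T a) :
    PtsIn T' a := fun p hp => h (ha p hp)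

/-- On a chart, `PtsIn T` says that the underlying map of schemes lands in the preimage of `T`. -/
theorem ptsIn_chart_iff (h𝒳 : FibCat.IsFibGrpd 𝒳.p) {U : Over S} (x : FibCat.overCat U ⥤ᵇ 𝒳)
    (T : Set (AlgSt.Points 𝒳)) (A : Over U) :
    PtsIn T (x.obj A) ↔ ∀ v : ↥A.left.left, AlgSt.Points.ofChart x (A.hom.left v) ∈ T := by
  constructor
  · intro h v
    rw [← ofChart_overMap A.hom x v]
    refine h _ ⟨?_⟩
    exact x.map (Over.homMk (Over.homMk (A.left.left.fromSpecResidueField v) rfl) rfl)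
  · intro h p ⟨m⟩
    obtain ⟨β, hβ⟩ := exists_base m p.lies (x.w_obj A)
    let γ : (Over.mk (β ≫ A.hom) : Over U) ⟶ A := Over.homMk β rfl
    have hγ0 : (FibCat.overCat U).p.IsHomLift β γ := by
      change (Over.forget U).IsHomLift ((Over.forget U).map γ) γ
      infer_instance
    haveI hγ : 𝒳.p.IsHomLift β (x.map γ) := BasedFunctor.preserves_isHomLift x β γ
    haveI := hβ
    obtain ⟨χ, -, -⟩ := IsFibGrpd.existsUnique 𝒳.p h𝒳 (𝟙 (Over.mk p.str)) β β
      (Category.id_comp _).symm (x.map γ) m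
    have e1 : AlgSt.Points.mk p =
        AlgSt.Points.mk ⟨p.K, p.str, x.obj (Over.mk (β ≫ A.hom)), x.w_obj _⟩ :=
      mk_eq_of_hom (p := p) (q := ⟨_, _, _, _⟩) χ
    rw [e1, mk_eq_ofChart x p.str (β ≫ A.hom)]
    exact h (β.left (IsLocalRing.closedPoint p.K))

/-- The inclusion of the full subcategory cut out by an open subset of the space of points is an
open immersion. -/
theorem isOpenImm_subIncl_ptsIn (h𝒳 : AlgSt.IsAlgStack Scheme.fppfPrecoverage 𝒳)
    (T : Set (AlgSt.Points 𝒳)) (hT : IsOpen T) :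
    AlgSt.IsOpenImm (AlgSt.subIncl 𝒳 (PtsIn T)) := by
  intro U x
  let W : U.left.Opens := ⟨AlgSt.Points.ofChart x ⁻¹' T, hT.preimage (continuous_ofChart h𝒳 x)⟩
  let W' : Over S := Over.mk (W.ι ≫ U.hom)
  let j : W' ⟶ U := Over.homMk W.ι rfl
  haveI : Mono j := (Over.forget S).mono_of_mono_map (inferInstanceAs (Mono W.ι))
  let R : (FibCat.overCat U).obj → Prop := fun A => PtsIn T (x.obj A)
  have hR : ∀ A : Over U, R A ↔ ∃ A' : A.left ⟶ W', A' ≫ j = A.hom := by
    intro A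
    change PtsIn T (x.obj A) ↔ _
    rw [ptsIn_chart_iff h𝒳.isStack.1 x T A]
    constructor
    · intro h
      have hrange : Set.range A.hom.left ⊆ Set.range W.ι := by
        rw [Scheme.Opens.range_ι]
        rintro _ ⟨v, rfl⟩
        exact h v
      refine ⟨Over.homMk (IsOpenImmersion.lift W.ι A.hom.left hrange) ?_, ?_⟩
      · change IsOpenImmersion.lift _ _ _ ≫ W.ι ≫ U.hom = A.left.hom
        rw [← Category.assoc, IsOpenImmersion.lift_fac, Over.w]
      · apply Over.OverMorphism.ext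
        exact IsOpenImmersion.lift_fac _ _ _
    · rintro ⟨A', hA'⟩ v
      have h1 : A.hom.left v = W.ι (A'.left v) := by
        rw [← hA']
        rfl
      rw [h1]
      exact (A'.left v).2
  let E : FibCat.overCat W' ⥤ᵇ FibCat.fp x (AlgSt.subIncl 𝒳 (PtsIn T)) :=
    BasedFunctor.comp (overSubCmp j R hR) (fpSubCmp x (PtsIn T))
  have hE : FibCat.IsEquivOver E :=
    ReprInv.isEquivOver_comp (overSubCmp_isEquivOver j R hR)
      (fpSubCmp_isEquivOver x (PtsIn T) (isClosedUnderIsomorphisms_ptsIn T))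
  refine ⟨⟨(AlgSp.yon S).obj W', AlgSp.IsAlgSpace.yon_obj W'⟩,
    BasedFunctor.comp (AlgSt.toOverCat W') E,
    ReprInv.isEquivOver_comp (toOverCat_isEquivOver W') hE, ?_⟩
  have h2 : BasedFunctor.comp (BasedFunctor.comp (AlgSt.toOverCat W') E)
      (FibCat.fpFst x (AlgSt.subIncl 𝒳 (PtsIn T))) =
      BasedFunctor.comp (AlgSt.toOverCat W') (AlgSt.overMap j) := rfl
  rw [h2, spMapOfOver_toOverCat_overMap]
  exact (AlgSp.repWith_yon_map_iff @IsOpenImmersion j).2 (inferInstanceAs (IsOpenImmersion W.ι))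

end Groth.Agent.Helper2.AlgStLib.Substack
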