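import Mathlib
import Groth.Prelude.Def_AlgSt4
import Groth.Prelude.Def_AlgSpCov
import Groth.Agent.Lib.Helper2.AlgSt.Substack.OpenSub
import Groth.Agent.Lib.Helper2.AlgSt.CoverSieve
import Groth.Agent.Lib.Helper2.FibCat.Yoneda

/-!
# The open substack attached to an open subset of the space of points (helper2)
-/

set_option autoImplicit false
open CategoryTheory CategoryTheory.Functor CategoryTheory.Limits AlgebraicGeometry Opposite

universe u

namespace Groth.Agent.Helper2.AlgStLib.Substack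

open Groth.Agent.Helper2 Groth.Agent.Helper2.FibCatLib Groth.Agent.Helper2.StkLib
open Groth.Agent.Helper2.AlgSpBasic Groth.Agent.Helper2.EtaleLocal
open Groth.Agent.Helper2.AlgStLib Groth.Agent.Helper2.AlgStLib.Pts
open Groth.Agent.Helper2.AlgStLib.LocQ

variable {S : Scheme.{u}}

/-- A covering sieve of the big fppf site is jointly surjective on points. -/
theorem exists_arrow_of_mem_J {U : Over S} (R : Sieve U)
    (hR : R ∈ QuotSh.J Scheme.fppfPrecoverage S U) (u : ↥U.left) :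
    ∃ (V : Over S) (h : V ⟶ U) (w : ↥V.left), R.arrows h ∧ h.left w = u := by
  have h1 : Sieve.overEquiv U R ∈ Scheme.fppfTopology U.left :=
    (GrothendieckTopology.mem_over_iff _ _).1 hR
  haveI : Scheme.fppfPrecoverage.{u}.HasIsos := by
    unfold Scheme.fppfPrecoverage; infer_instance
  haveI : Scheme.fppfPrecoverage.{u}.HasPullbacks := by
    unfold Scheme.fppfPrecoverage; infer_instance
  obtain ⟨R₀, hR₀, hle⟩ :=
    Precoverage.mem_toGrothendieck_iff_of_isStableUnderComposition.1 h1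
  obtain ⟨κ, Y, f, rfl⟩ := R₀.exists_eq_ofArrows
  rw [Scheme.fppfPrecoverage, Scheme.ofArrows_mem_precoverage_iff] at hR₀
  obtain ⟨hsurj, -⟩ := hR₀
  obtain ⟨i, w, hw⟩ := hsurj u
  refine ⟨Over.mk (f i ≫ U.hom), Over.homMk (f i) rfl, w, ?_, hw⟩
  have h2 : (Sieve.overEquiv U R).arrows (f i) := hle _ _ (Presieve.ofArrows.mk i)
  exact (Sieve.overEquiv_iff _ _).1 h2

variable {𝒳 : BasedCategory.{u, u + 1} (Over S)}

/-- Membership in `PtsIn T` is local for the fppf topology. -/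
theorem ptsIn_local (h𝒳 : FibCat.IsFibGrpd 𝒳.p) (T : Set (AlgSt.Points 𝒳)) {U : Over S}
    (R : Sieve U) (hR : R ∈ QuotSh.J Scheme.fppfPrecoverage S U) (x : 𝒳.obj)
    (hx : 𝒳.p.obj x = U)
    (hloc : ∀ ⦃V : Over S⦄ (f : V ⟶ U), R f → ∀ (y : 𝒳.obj) (φ : y ⟶ x),
      𝒳.p.IsHomLift f φ → PtsIn T y) : PtsIn T x := by
  haveI := isFibered_of_isFibGrpd 𝒳.p h𝒳
  obtain ⟨e, he⟩ := yonedaFunctor_obj_id_iso hx
  refine ptsIn_of_hom e.inv ?_
  change PtsIn T ((yonedaFunctor hx).obj (Over.mk (𝟙 U)))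
  rw [ptsIn_chart_iff h𝒳 (yonedaFunctor hx) T (Over.mk (𝟙 U))]
  intro v
  change AlgSt.Points.ofChart (yonedaFunctor hx) v ∈ T
  obtain ⟨V, h, w, hRh, rfl⟩ := exists_arrow_of_mem_J R hR v
  have h1 : 𝒳.p.IsHomLift h ((yonedaFunctor hx).map (toId U (Over.mk h))) :=
    isHomLift_map_over U (yonedaFunctor hx) (toId U (Over.mk h))
  have h2 : 𝒳.p.IsHomLift h ((yonedaFunctor hx).map (toId U (Over.mk h)) ≫ e.hom) :=
    isHomLift_congr' 𝒳.p (Category.comp_id _) _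
      (inferInstance : 𝒳.p.IsHomLift (h ≫ 𝟙 U) ((yonedaFunctor hx).map (toId U (Over.mk h)) ≫ e.hom))
  have h3 := hloc h hRh _ _ h2
  rw [ptsIn_chart_iff h𝒳 (yonedaFunctor hx) T (Over.mk h)] at h3
  exact h3 w

/-- The full subcategory on `PtsIn T` is a stack. -/
theorem isStack_fullSub_ptsIn
    (h𝒳 : Stk.IsStack (QuotSh.J Scheme.fppfPrecoverage S) 𝒳) (T : Set (AlgSt.Points 𝒳)) :
    Stk.IsStack (QuotSh.J Scheme.fppfPrecoverage S) (AlgSt.fullSub 𝒳 (PtsIn T)) := by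
  change Stk.IsStack (QuotSh.J Scheme.fppfPrecoverage S) (StkLib.subCat 𝒳 (PtsIn T))
  have h1 : ∀ ⦃y x : 𝒳.obj⦄ (_ : y ⟶ x), PtsIn T x → ∃ (y' : 𝒳.obj) (e : y ≅ y'), PtsIn T y' ∧
      𝒳.p.IsHomLift (𝟙 (𝒳.p.obj y)) e.hom := by
    intro y x φ hx
    exact ⟨y, Iso.refl y, ptsIn_of_hom φ hx, IsHomLift.id rfl⟩
  have hsub := isFibGrpd_subCat (PtsIn T) h𝒳.1 h1
  refine ⟨hsub, ?_⟩
  intro U R hR
  have e𝒳 : (Stk.resSieve R 𝒳).IsEquivalence := h𝒳.2 R hR
  obtain ⟨hfull, hfaith⟩ := restr_full_faithful_of_ff (Stk.sieveIncl R)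
    (StkLib.subIncl 𝒳 (PtsIn T)) e𝒳.full e𝒳.faithful
  have hes := restr_sub_essSurj (PtsIn T) h𝒳.1 h1 R e𝒳.essSurj
    (fun x hx hloc => ⟨x, Iso.refl x, ptsIn_local h𝒳.1 T R hR x hx (fun V f hf y φ hφ => by
      obtain ⟨y', e', hy', -⟩ := hloc f hf y φ hφ
      exact ptsIn_of_hom e'.hom hy'), IsHomLift.id hx⟩)
  exact { }

/-- The open substack attached to an open subset of the space of points. -/
theorem isOpenSubstack_ptsIn (h𝒳 : AlgSt.IsAlgStack Scheme.fppfPrecoverage 𝒳)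
    (T : Set (AlgSt.Points 𝒳)) (hT : IsOpen T) :
    AlgSt.IsOpenSubstack 𝒳 (PtsIn T) Scheme.fppfPrecoverage := by
  have hop := isOpenImm_subIncl_ptsIn h𝒳 T hT
  refine ⟨isClosedUnderIsomorphisms_ptsIn T, ?_, hop⟩
  exact isAlgStack_of_repByAlgSp1 _ h𝒳 (isStack_fullSub_ptsIn h𝒳.isStack T)
    (AlgSt.subIncl 𝒳 (PtsIn T)) (repByAlgSp1_of_repByAlgSpWith _ hop)

end Groth.Agent.Helper2.AlgStLib.Substack
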