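import Mathlib
import Groth.Prelude.Def_AlgSt4
import Groth.Prelude.Def_AlgSpCov
import Groth.Agent.Lib.Helper2.AlgSt.Substack.OpenSubStack
import Groth.Agent.Lib.Helper2.AlgSt.LocalBase

/-!
# Scheme charts of functors representable by schemes (helper2)
-/

set_option autoImplicit false
open CategoryTheory CategoryTheory.Functor CategoryTheory.Limits AlgebraicGeometry Opposite

universe u

namespace Groth.Agent.Helper2.AlgStLib.Substack

open Groth.Agent.Helper2 Groth.Agent.Helper2.FibCatLib Groth.Agent.Helper2.StkLib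
open Groth.Agent.Helper2.AlgSpBasic Groth.Agent.Helper2.EtaleLocal
open Groth.Agent.Helper2.AlgStLib Groth.Agent.Helper2.AlgStLib.Pts
open Groth.Agent.Helper2.AlgStLib.LocQ AlgSp

variable {S : Scheme.{u}} {𝒳 𝒴 : BasedCategory.{u, u + 1} (Over S)}

/-- The functor of `h_j` between the categories of representable sheaves is composition with `j`
between the slices. -/
theorem ofOverCat_ofSpMap_yon_toOverCat {W U : Over S} (j : W ⟶ U) :
    BasedFunctor.comp (BasedFunctor.comp (AlgSt.ofOverCat W) (AlgSt.ofSpMap ((yon S).map j)))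
      (AlgSt.toOverCat U) = AlgSt.overMap j := rfl

/-- If `f` is representable by algebraic spaces with a property of morphisms of schemes, its base
change to a scheme is a scheme. -/
theorem exists_scheme_chart_of_repWith (P : MorphismProperty Scheme.{u}) (f : 𝒳 ⥤ᵇ 𝒴)
    (hf : AlgSt.RepByAlgSpWith (AlgSp.RepWith P) f) (U : Over S) (y : FibCat.overCat U ⥤ᵇ 𝒴) :
    ∃ (W : Over S) (j : W ⟶ U) (E : FibCat.overCat W ⥤ᵇ FibCat.fp y f), FibCat.IsEquivOver E ∧
      P j.left ∧ Nonempty (BasedFunctor.comp E (FibCat.fpFst y f) ≅ AlgSt.overMap j) := by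
  obtain ⟨G, e, he, ha⟩ := hf U y
  have hrep : Representable (AlgSt.spMapOfOver (BasedFunctor.comp e (FibCat.fpFst y f))) := ha.rep
  have sq := hrep.isPullback (𝟙 ((yon S).obj U))
  have hP : P (hrep.snd (𝟙 _)).left := ha.property (𝟙 _) _ _ sq
  haveI : IsIso (hrep.fst (𝟙 ((yon S).obj U))) := sq.isIso_fst_of_isIso
  haveI : IsIso (hrep.fst (𝟙 ((yon S).obj U))).hom :=
    (inferInstance : IsIso ((ObjectProperty.ι _).map (hrep.fst (𝟙 ((yon S).obj U)))))
  let W : Over S := hrep.pullback (𝟙 ((yon S).obj U))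
  let j : W ⟶ U := hrep.snd (𝟙 _)
  let φ : (yon S).obj W ⟶ G.obj := hrep.fst (𝟙 _)
  have hφ : FibCat.IsEquivOver (AlgSt.ofSpMap φ) := isEquivOver_ofPshMap_of_isIso φ.hom
  let E : FibCat.overCat W ⥤ᵇ FibCat.fp y f :=
    BasedFunctor.comp (BasedFunctor.comp (AlgSt.ofOverCat W) (AlgSt.ofSpMap φ)) e
  have hE : FibCat.IsEquivOver E :=
    ReprInv.isEquivOver_comp (ReprInv.isEquivOver_comp (ofOverCat_isEquivOver W) hφ) he
  refine ⟨W, j, E, hE, hP, ?_⟩
  obtain ⟨θ⟩ := ofSpMap_spMapOfOver_iso (BasedFunctor.comp e (FibCat.fpFst y f))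
  obtain ⟨κ⟩ := ofPshMap_comp_iso φ.hom
    (AlgSt.spMapOfOver (BasedFunctor.comp e (FibCat.fpFst y f))).hom
  have hw : φ ≫ AlgSt.spMapOfOver (BasedFunctor.comp e (FibCat.fpFst y f)) = (yon S).map j := by
    have := sq.w
    rw [Category.comp_id] at this
    exact this
  have hw' : φ.hom ≫ (AlgSt.spMapOfOver (BasedFunctor.comp e (FibCat.fpFst y f))).hom =
      ((yon S).map j).hom := congrArg (fun t => t.hom) hw
  rw [hw'] at κ
  -- assemble
  let i1 : BasedFunctor.comp E (FibCat.fpFst y f) ≅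
      BasedFunctor.comp (BasedFunctor.comp (AlgSt.ofOverCat W) (AlgSt.ofSpMap φ))
        (BasedFunctor.comp (AlgSt.ofSpMap (AlgSt.spMapOfOver
          (BasedFunctor.comp e (FibCat.fpFst y f)))) (AlgSt.toOverCat U)) :=
    whiskerLeftIso (BasedFunctor.comp (AlgSt.ofOverCat W) (AlgSt.ofSpMap φ)) θ.symm
  let i2 : BasedFunctor.comp (BasedFunctor.comp (AlgSt.ofOverCat W) (AlgSt.ofSpMap φ))
        (BasedFunctor.comp (AlgSt.ofSpMap (AlgSt.spMapOfOver
          (BasedFunctor.comp e (FibCat.fpFst y f)))) (AlgSt.toOverCat U)) ≅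
      BasedFunctor.comp (BasedFunctor.comp (AlgSt.ofOverCat W) (AlgSt.ofSpMap ((yon S).map j)))
        (AlgSt.toOverCat U) :=
    whiskerLeftIso (AlgSt.ofOverCat W) ((postF _ (AlgSt.toOverCat U)).mapIso κ)
  exact ⟨i1 ≪≫ i2⟩

end Groth.Agent.Helper2.AlgStLib.Substack
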