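import Mathlib
import Groth.Prelude.Def_AlgSt4
import Groth.Prelude.Def_AlgSpCov
import Groth.Agent.Lib.Helper2.AlgSt.Substack.SchemeChart

/-!
# Open substacks are determined by their points (helper2)
-/

set_option autoImplicit false
open CategoryTheory CategoryTheory.Functor CategoryTheory.Limits AlgebraicGeometry Opposite

universe u

namespace Groth.Agent.Helper2.AlgStLib.Substack

open Groth.Agent.Helper2 Groth.Agent.Helper2.FibCatLib Groth.Agent.Helper2.StkLib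
open Groth.Agent.Helper2.AlgSpBasic Groth.Agent.Helper2.EtaleLocal
open Groth.Agent.Helper2.AlgStLib Groth.Agent.Helper2.AlgStLib.Pts
open Groth.Agent.Helper2.AlgStLib.LocQ AlgSp

variable {S : Scheme.{u}} {𝒳 : BasedCategory.{u, u + 1} (Over S)}

/-- The points of the substack `PtsIn T` are `T`. -/
theorem range_map_subIncl_ptsIn (T : Set (AlgSt.Points 𝒳)) :
    Set.range (AlgSt.Points.map (AlgSt.subIncl 𝒳 (PtsIn T))) = T := by
  apply Set.Subset.antisymm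
  · rintro _ ⟨w, rfl⟩
    obtain ⟨p, rfl⟩ := AlgSt.Points.mk_surjective w
    rw [AlgSt.Points.map_mk]
    exact p.obj.property (AlgSt.FPt.map (AlgSt.subIncl 𝒳 (PtsIn T)) p) ⟨𝟙 _⟩
  · intro t ht
    obtain ⟨p, rfl⟩ := AlgSt.Points.mk_surjective t
    have hp : PtsIn T p.obj := by
      intro q ⟨m⟩
      rw [mk_eq_of_hom m]
      exact ht
    refine ⟨AlgSt.Points.mk ⟨p.K, p.str, ⟨p.obj, hp⟩, p.lies⟩, ?_⟩
    rw [AlgSt.Points.map_mk]
    rfl

/-- A strictly full subcategory fibred in groupoids of a category fibred in groupoids contains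
the source of every morphism to one of its objects. -/
theorem of_hom_of_isFibGrpd_fullSub (Q : 𝒳.obj → Prop)
    (hQiso : ObjectProperty.IsClosedUnderIsomorphisms Q) (h𝒳 : FibCat.IsFibGrpd 𝒳.p)
    (hfib : FibCat.IsFibGrpd (AlgSt.fullSub 𝒳 Q).p) {a b : 𝒳.obj} (φ : b ⟶ a) (ha : Q a) :
    Q b := by
  obtain ⟨z, ψ, hψ⟩ := hfib.exists_lift (x := (⟨a, ha⟩ : (AlgSt.fullSub 𝒳 Q).obj)) (𝒳.p.map φ)
  haveI hψ' : 𝒳.p.IsHomLift (𝒳.p.map φ) ψ.hom :=
    (BasedFunctor.isHomLift_iff (AlgSt.subIncl 𝒳 Q) (𝒳.p.map φ) ψ).2 hψ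
  obtain ⟨χ, ⟨hχ, -⟩, -⟩ := IsFibGrpd.existsUnique 𝒳.p h𝒳 (𝟙 (𝒳.p.obj b)) (𝒳.p.map φ)
    (𝒳.p.map φ) (Category.id_comp _).symm ψ.hom φ
  haveI := hχ
  haveI : IsIso χ := IsFibGrpd.isIso_of_isHomLift_id 𝒳.p h𝒳 (S := 𝒳.p.obj b) χ
  exact hQiso.of_iso (asIso χ).symm z.property

/-- Objects of a substack have all their points in the substack. -/
theorem ptsIn_range_of (Q : 𝒳.obj → Prop)
    (hQiso : ObjectProperty.IsClosedUnderIsomorphisms Q) (h𝒳 : FibCat.IsFibGrpd 𝒳.p)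
    (hfib : FibCat.IsFibGrpd (AlgSt.fullSub 𝒳 Q).p) (a : 𝒳.obj) (ha : Q a) :
    PtsIn (Set.range (AlgSt.Points.map (AlgSt.subIncl 𝒳 Q))) a := by
  intro p ⟨m⟩
  have hp : Q p.obj := of_hom_of_isFibGrpd_fullSub Q hQiso h𝒳 hfib m ha
  refine ⟨AlgSt.Points.mk ⟨p.K, p.str, ⟨p.obj, hp⟩, p.lies⟩, ?_⟩
  rw [AlgSt.Points.map_mk]
  rfl

/-- An object all of whose points lie in an open substack lies in it. -/
theorem of_ptsIn_range (h𝒳 : AlgSt.IsAlgStack Scheme.fppfPrecoverage 𝒳) (Q : 𝒳.obj → Prop)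
    (hQ : AlgSt.IsOpenSubstack 𝒳 Q Scheme.fppfPrecoverage) (a : 𝒳.obj)
    (ha : PtsIn (Set.range (AlgSt.Points.map (AlgSt.subIncl 𝒳 Q))) a) : Q a := by
  obtain ⟨hQiso, hQalg, hQopen⟩ := hQ
  have hfib𝒳 := h𝒳.isStack.1
  have hfibQ := hQalg.isStack.1
  haveI := isFibered_of_isFibGrpd 𝒳.p hfib𝒳
  let U : Over S := 𝒳.p.obj a
  let x : FibCat.overCat U ⥤ᵇ 𝒳 := yonedaFunctor (rfl : 𝒳.p.obj a = U)
  obtain ⟨ea, -⟩ := yonedaFunctor_obj_id_iso (rfl : 𝒳.p.obj a = U)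
  have ha' : PtsIn (Set.range (AlgSt.Points.map (AlgSt.subIncl 𝒳 Q))) (x.obj (Over.mk (𝟙 U))) :=
    ptsIn_of_hom ea.hom ha
  rw [ptsIn_chart_iff hfib𝒳 x _ (Over.mk (𝟙 U))] at ha'
  obtain ⟨W, j, E, hE, hj, ⟨θ⟩⟩ := exists_scheme_chart_of_repWith @IsOpenImmersion
    (AlgSt.subIncl 𝒳 Q) hQopen U x
  haveI : IsOpenImmersion j.left := hj
  -- `j` is surjective
  have hsurj : Function.Surjective j.left := by
    intro v
    obtain ⟨w, hw⟩ := ha' v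
    change AlgSt.Points.map (AlgSt.subIncl 𝒳 Q) w = AlgSt.Points.ofChart x v at hw
    rw [ofChart_eq_map_ptEquiv] at hw
    obtain ⟨ω, hω, -⟩ := exists_points_fp_of_map_eq hfibQ hfib𝒳 (isFibGrpd_overCat U)
      (AlgSt.subIncl 𝒳 Q) x (ptEquiv U v) w hw.symm
    obtain ⟨ω', rfl⟩ := (bijective_map_of_isEquivOver E hE).2 ω
    obtain ⟨w', rfl⟩ := (ptEquiv W).surjective ω'
    refine ⟨w', ?_⟩
    apply (ptEquiv U).injective
    rw [← hω, ← map_comp, ← ofChart_eq_map_ptEquiv, ofChart_congr θ, ptEquiv_apply,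
      ← ofChart_overMap j (BasedFunctor.id (FibCat.overCat U)) w']
    rfl
  haveI : Surjective j.left := ⟨hsurj⟩
  haveI : IsIso j.left := (isIso_iff_isOpenImmersion_and_epi_base j.left).2
    ⟨inferInstance, (TopCat.epi_iff_surjective _).2 hsurj⟩
  haveI : IsIso ((Over.forget S).map j) := (inferInstance : IsIso j.left)
  haveI : IsIso j := isIso_of_reflects_iso j (Over.forget S)
  -- the section
  let s : U ⟶ W := inv j
  let ξ := E.obj (Over.mk s)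
  have h1 : (BasedFunctor.comp E (FibCat.fpFst x (AlgSt.subIncl 𝒳 Q))).obj (Over.mk s) ≅
      (AlgSt.overMap j).obj (Over.mk s) :=
    ⟨θ.hom.toNatTrans.app _, θ.inv.toNatTrans.app _,
      congrArg (fun t => t.toNatTrans.app (Over.mk s)) θ.hom_inv_id,
      congrArg (fun t => t.toNatTrans.app (Over.mk s)) θ.inv_hom_id⟩
  have h2 : (AlgSt.overMap j).obj (Over.mk s) = Over.mk (𝟙 U) := by
    change Over.mk (s ≫ j) = Over.mk (𝟙 U)
    rw [IsIso.inv_hom_id]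
  have h3 : Q (x.obj (Over.mk (𝟙 U))) := by
    rw [← h2]
    refine hQiso.of_iso ?_ ξ.obj.snd.property
    exact (ξ.obj.iso.symm ≪≫ x.toFunctor.mapIso h1 : _ ≅ _)
  exact hQiso.of_iso ea h3

/-- An open substack consists of the objects all of whose points lie in it. -/
theorem isOpenSubstack_iff_ptsIn (h𝒳 : AlgSt.IsAlgStack Scheme.fppfPrecoverage 𝒳)
    (Q : 𝒳.obj → Prop) (hQ : AlgSt.IsOpenSubstack 𝒳 Q Scheme.fppfPrecoverage) (a : 𝒳.obj) :
    Q a ↔ PtsIn (Set.range (AlgSt.Points.map (AlgSt.subIncl 𝒳 Q))) a :=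
  ⟨ptsIn_range_of Q hQ.1 h𝒳.isStack.1 hQ.2.1.isStack.1 a, of_ptsIn_range h𝒳 Q hQ a⟩

end Groth.Agent.Helper2.AlgStLib.Substack
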