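import Mathlib
import Groth.Prelude.Def_AlgSt4
import Groth.Prelude.Def_AlgSpCov
import Groth.Agent.Lib.Helper2.AlgSt.Substack.FullSubFp
import Groth.Agent.Lib.Helper2.AlgSt.LocQ.Crux
import Groth.Agent.Lib.Helper2.AlgSt.ImmFacts
import Groth.Agent.Lib.Helper2.AlgSt.Equiv
import Groth.Agent.S12774

/-!
# The essential image of a monomorphism as a substack (helper2)
-/

set_option autoImplicit false
open CategoryTheory CategoryTheory.Functor CategoryTheory.Limits AlgebraicGeometry Opposite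

universe u

namespace Groth.Agent.Helper2.AlgStLib.Substack

open Groth.Agent.Helper2 Groth.Agent.Helper2.FibCatLib Groth.Agent.Helper2.StkLib
open Groth.Agent.Helper2.AlgSpBasic Groth.Agent.Helper2.EtaleLocal
open Groth.Agent.Helper2.AlgStLib Groth.Agent.Helper2.AlgStLib.LocQ

variable {S : Scheme.{u}} {𝒵 𝒳 : BasedCategory.{u, u + 1} (Over S)}

/-- The essential image of a functor, as a predicate on objects. -/
def EssIm (i : 𝒵 ⥤ᵇ 𝒳) : 𝒳.obj → Prop := fun x => ∃ z : 𝒵.obj, Nonempty (i.obj z ≅ x)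

theorem isClosedUnderIsomorphisms_essIm (i : 𝒵 ⥤ᵇ 𝒳) :
    ObjectProperty.IsClosedUnderIsomorphisms (EssIm i) :=
  ⟨fun e ⟨z, ⟨ε⟩⟩ => ⟨z, ⟨ε ≪≫ e⟩⟩⟩

theorem essIm_obj (i : 𝒵 ⥤ᵇ 𝒳) (z : 𝒵.obj) : EssIm i (i.obj z) := ⟨z, ⟨Iso.refl _⟩⟩

/-- An object of the essential image is the image of an object of its own fibre, by an isomorphism
in the fibre. -/
theorem exists_iso_over_id_of_essIm (h𝒵 : FibCat.IsFibGrpd 𝒵.p) (i : 𝒵 ⥤ᵇ 𝒳) (x : 𝒳.obj)
    (hx : EssIm i x) :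
    ∃ (z : 𝒵.obj) (e : i.obj z ≅ x), 𝒳.p.IsHomLift (𝟙 (𝒳.p.obj x)) e.hom := by
  obtain ⟨z, ⟨ε⟩⟩ := hx
  obtain ⟨z', ψ, hψ⟩ := IsFibGrpd.exists_lift_of_eq 𝒵.p h𝒵 (i.w_obj z).symm (𝒳.p.map ε.inv)
  haveI := hψ
  haveI : IsIso (𝒳.p.map ε.inv) := inferInstance
  haveI hsc := IsFibGrpd.isStronglyCartesian_of_isHomLift 𝒵.p h𝒵 (𝒳.p.map ε.inv) ψ
  haveI : IsIso ψ := Functor.IsStronglyCartesian.isIso_of_base_isIso 𝒵.p (𝒳.p.map ε.inv) ψ
  haveI h1 : 𝒳.p.IsHomLift (𝒳.p.map ε.inv) (i.map ψ) :=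
    BasedFunctor.preserves_isHomLift i _ ψ
  refine ⟨z', i.toFunctor.mapIso (asIso ψ) ≪≫ ε, ?_⟩
  have h2 : 𝒳.p.IsHomLift (𝒳.p.map ε.inv ≫ 𝒳.p.map ε.hom) (i.map ψ ≫ ε.hom) := inferInstance
  refine isHomLift_congr' 𝒳.p ?_ _ h2
  rw [← 𝒳.p.map_comp, Iso.inv_hom_id, 𝒳.p.map_id]

/-- A fully faithful functor between categories fibred in groupoids is an equivalence onto its
essential image. -/
theorem isEquivOver_corestrict_essIm (h𝒵 : FibCat.IsFibGrpd 𝒵.p) (i : 𝒵 ⥤ᵇ 𝒳)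
    [i.toFunctor.Full] [i.toFunctor.Faithful] :
    FibCat.IsEquivOver (corestrict i (EssIm i) (essIm_obj i)) := by
  haveI : (corestrict i (EssIm i) (essIm_obj i)).toFunctor.Full :=
    ⟨fun {a b} m => by
      obtain ⟨k, hk⟩ := i.toFunctor.map_surjective m.hom
      exact ⟨k, ObjectProperty.hom_ext _ hk⟩⟩
  haveI : (corestrict i (EssIm i) (essIm_obj i)).toFunctor.Faithful :=
    ⟨fun {a b} m m' h => i.toFunctor.map_injective (congrArg (fun t => t.hom) h)⟩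
  apply isEquivOver_of_fullyFaithful_of_exists_iso
  intro η
  obtain ⟨z, e, he⟩ := exists_iso_over_id_of_essIm h𝒵 i η.obj η.property
  refine ⟨z, ObjectProperty.isoMk _ e, ?_⟩
  exact (BasedFunctor.isHomLift_iff (AlgSt.subIncl 𝒳 (EssIm i)) _ _).1 he

/-- The essential image of a monomorphism of algebraic stacks is an algebraic stack whose
inclusion has every property of the monomorphism. -/
theorem essIm_of_isMono (h𝒵 : AlgSt.IsAlgStack Scheme.fppfPrecoverage 𝒵)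
    (h𝒳 : AlgSt.IsAlgStack Scheme.fppfPrecoverage 𝒳) (i : 𝒵 ⥤ᵇ 𝒳) (hi : AlgSt.IsMono i) :
    FibCat.IsEquivOver (corestrict i (EssIm i) (essIm_obj i)) ∧
      AlgSt.IsAlgStack Scheme.fppfPrecoverage (AlgSt.fullSub 𝒳 (EssIm i)) ∧
      ∀ P : MorphismProperty (AlgSp.Sp S), AlgSt.RepByAlgSpWith P i →
        AlgSt.RepByAlgSpWith P (AlgSt.subIncl 𝒳 (EssIm i)) := by
  obtain ⟨hfull, hfaith⟩ := Groth.Agent.S12774.result h𝒵.isStack.1 h𝒳.isStack.1 i hi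
  have he := isEquivOver_corestrict_essIm h𝒵.isStack.1 i
  refine ⟨he, isAlgStack_of_isEquivOver _ _ he h𝒵, fun P hP => ?_⟩
  exact (repByAlgSpWith_equiv_comp P _ he (AlgSt.subIncl 𝒳 (EssIm i))).1 hP

/-- Uniqueness of the strictly full subcategory through which a functor factors by an
equivalence. -/
theorem eq_essIm_of_equiv (i : 𝒵 ⥤ᵇ 𝒳) (Q' : 𝒳.obj → Prop)
    (hQ' : ObjectProperty.IsClosedUnderIsomorphisms Q') (i' : 𝒵 ⥤ᵇ AlgSt.fullSub 𝒳 Q')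
    (hi' : FibCat.IsEquivOver i')
    (θ : BasedFunctor.comp i' (AlgSt.subIncl 𝒳 Q') ≅ i) : Q' = EssIm i := by
  have hθ : ∀ z : 𝒵.obj, (i'.obj z).obj ≅ i.obj z := fun z =>
    ⟨θ.hom.toNatTrans.app z, θ.inv.toNatTrans.app z,
      congrArg (fun t => t.toNatTrans.app z) θ.hom_inv_id,
      congrArg (fun t => t.toNatTrans.app z) θ.inv_hom_id⟩
  funext x
  apply propext
  constructor
  · intro hx
    haveI := FibCatLib.isEquivalence_of_isEquivOver hi'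
    obtain ⟨z, ⟨ε⟩⟩ := Functor.EssSurj.mem_essImage i'.toFunctor
      (⟨x, hx⟩ : (AlgSt.fullSub 𝒳 Q').obj)
    exact ⟨z, ⟨(hθ z).symm ≪≫ (ObjectProperty.ι Q').mapIso ε⟩⟩
  · rintro ⟨z, ⟨ε⟩⟩
    exact hQ'.of_iso ((hθ z) ≪≫ ε) (i'.obj z).property

end Groth.Agent.Helper2.AlgStLib.Substack
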