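import Mathlib
import Groth.Prelude.Def_AlgSt4
import Groth.Prelude.Def_AlgSpCov
import Groth.Agent.Lib.Helper2.AlgSt.Substack.OpenChar
import Groth.Agent.Lib.Helper2.Stk.FullSubLocal
import Groth.Agent.Lib.Helper2.AlgSt.Pts.Lift
import Groth.Agent.Lib.Helper2.AlgSt.QC

/-!
# Substacks of reduced algebraic stacks (helper2)
-/

set_option autoImplicit false
open CategoryTheory CategoryTheory.Functor CategoryTheory.Limits AlgebraicGeometry Opposite

universe u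

namespace Groth.Agent.Helper2.AlgStLib.Substack

open Groth.Agent.Helper2 Groth.Agent.Helper2.FibCatLib Groth.Agent.Helper2.StkLib
open Groth.Agent.Helper2.AlgSpBasic Groth.Agent.Helper2.EtaleLocal
open Groth.Agent.Helper2.AlgStLib Groth.Agent.Helper2.AlgStLib.Pts
open Groth.Agent.Helper2.AlgStLib.LocQ AlgSp

variable {S : Scheme.{u}} {𝒳 𝒴 : BasedCategory.{u, u + 1} (Over S)}

/-- If the inclusion of a substack is representable with a property `P` of morphisms of schemes,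
`U` is a scheme all of whose surjective `P`-subschemes are everything, and all points of a chart
`x` from `U` lie in the substack, then the chart lies in the substack. -/
theorem mem_of_surjective_chart (h𝒳 : FibCat.IsFibGrpd 𝒳.p) (Q : 𝒳.obj → Prop)
    (hQiso : ObjectProperty.IsClosedUnderIsomorphisms Q)
    (hfibQ : FibCat.IsFibGrpd (AlgSt.fullSub 𝒳 Q).p) (P : MorphismProperty Scheme.{u})
    (hP : AlgSt.RepByAlgSpWith (AlgSp.RepWith P) (AlgSt.subIncl 𝒳 Q)) {U : Over S}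
    (x : FibCat.overCat U ⥤ᵇ 𝒳)
    (hU : ∀ (W : Over S) (j : W ⟶ U), P j.left → Function.Surjective j.left → IsIso j.left)
    (hpts : ∀ v : ↥U.left, AlgSt.Points.ofChart x v ∈
      Set.range (AlgSt.Points.map (AlgSt.subIncl 𝒳 Q))) :
    Q (x.obj (Over.mk (𝟙 U))) := by
  obtain ⟨W, j, E, hE, hj, ⟨θ⟩⟩ := exists_scheme_chart_of_repWith P (AlgSt.subIncl 𝒳 Q) hP U x
  have hsurj : Function.Surjective j.left := by
    intro v
    obtain ⟨w, hw⟩ := hpts v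
    rw [ofChart_eq_map_ptEquiv] at hw
    obtain ⟨ω, hω, -⟩ := exists_points_fp_of_map_eq hfibQ h𝒳 (isFibGrpd_overCat U)
      (AlgSt.subIncl 𝒳 Q) x (ptEquiv U v) w hw.symm
    obtain ⟨ω', rfl⟩ := (bijective_map_of_isEquivOver E hE).2 ω
    obtain ⟨w', rfl⟩ := (ptEquiv W).surjective ω'
    refine ⟨w', ?_⟩
    apply (ptEquiv U).injective
    rw [← hω, ← map_comp, ← ofChart_eq_map_ptEquiv, ofChart_congr θ, ptEquiv_apply,
      ← ofChart_overMap j (BasedFunctor.id (FibCat.overCat U)) w']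
    rfl
  haveI : IsIso j.left := hU W j hj hsurj
  haveI : IsIso ((Over.forget S).map j) := (inferInstance : IsIso j.left)
  haveI : IsIso j := isIso_of_reflects_iso j (Over.forget S)
  let s : U ⟶ W := inv j
  let ξ := E.obj (Over.mk s)
  have h1 : (BasedFunctor.comp E (FibCat.fpFst x (AlgSt.subIncl 𝒳 Q))).obj (Over.mk s) ≅
      (AlgSt.overMap j).obj (Over.mk s) :=
    ⟨θ.hom.toNatTrans.app _, θ.inv.toNatTrans.app _,
      congrArg (fun t => t.toNatTrans.app (Over.mk s)) θ.hom_inv_id,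
      congrArg (fun t => t.toNatTrans.app (Over.mk s)) θ.inv_hom_id⟩
  have h2 : (AlgSt.overMap j).obj (Over.mk s) = Over.mk (𝟙 U) := by
    change Over.mk (s ≫ j) = Over.mk (𝟙 U)
    rw [IsIso.inv_hom_id]
  rw [← h2]
  refine hQiso.of_iso ?_ ξ.obj.snd.property
  exact (ξ.obj.iso.symm ≪≫ x.toFunctor.mapIso h1 : _ ≅ _)

/-- If a strictly full substack contains a smooth surjective chart, it is everything. -/
theorem forall_mem_of_atlas (h𝒳 : AlgSt.IsAlgStack Scheme.fppfPrecoverage 𝒳) (Q : 𝒳.obj → Prop)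
    (hQiso : ObjectProperty.IsClosedUnderIsomorphisms Q)
    (hQst : Stk.IsStack (QuotSh.J Scheme.fppfPrecoverage S) (AlgSt.fullSub 𝒳 Q)) {V : Over S}
    (v : FibCat.overCat V ⥤ᵇ 𝒳) (hv1 : Sm v) (hv2 : Sj v) (hv : Q (v.obj (Over.mk (𝟙 V))))
    (y : 𝒳.obj) : Q y := by
  have hfib := h𝒳.isStack.1
  have hhom : ∀ {a b : 𝒳.obj} (_ : b ⟶ a), Q a → Q b := fun φ ha =>
    of_hom_of_isFibGrpd_fullSub Q hQiso hfib hQst.1 φ ha
  haveI := isFibered_of_isFibGrpd 𝒳.p hfib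
  let U : Over S := 𝒳.p.obj y
  let x : FibCat.overCat U ⥤ᵇ 𝒳 := yonedaFunctor (rfl : 𝒳.p.obj y = U)
  obtain ⟨e, he⟩ := yonedaFunctor_obj_id_iso (rfl : 𝒳.p.obj y = U)
  obtain ⟨V₀, c, h₀, ⟨θ⟩, -, hfl, hfp, hsurj⟩ := exists_chart_fp hfib v
    (repByAlgSpWith_flat_of_smooth hv1) (repByAlgSpWith_lfp_of_smooth hv1) U x
  haveI := hfl
  haveI := hfp
  haveI : Surjective h₀.left := hsurj hv2
  let R : Sieve U :=
    { arrows := fun A f => Q (x.obj (Over.mk f))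
      downward_closed := fun {A B f} hf g =>
        hhom (x.map (Over.homMk g rfl : Over.mk (g ≫ f) ⟶ Over.mk f)) hf }
  have hR0 : R h₀ := by
    change Q (x.obj (Over.mk h₀))
    let ξ := c.obj (Over.mk (𝟙 V₀))
    have m5 : v.obj ξ.obj.snd ⟶ v.obj (Over.mk (𝟙 V)) := v.map (toId V ξ.obj.snd)
    have m4 : x.obj ξ.obj.fst ⟶ v.obj ξ.obj.snd := ξ.obj.iso.hom
    have m3 : x.obj ((AlgSt.overMap h₀).obj (Over.mk (𝟙 V₀))) ⟶ x.obj ξ.obj.fst :=
      x.map (θ.inv.toNatTrans.app (Over.mk (𝟙 V₀)))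
    have m2 : x.obj (Over.mk h₀) ⟶ x.obj ((AlgSt.overMap h₀).obj (Over.mk (𝟙 V₀))) :=
      x.map (Over.homMk (𝟙 V₀) (by
        change 𝟙 V₀ ≫ (𝟙 V₀ ≫ h₀) = h₀
        rw [Category.id_comp, Category.id_comp]))
    exact hhom m2 (hhom m3 (hhom m4 (hhom m5 hv)))
  have hR : R ∈ QuotSh.J Scheme.fppfPrecoverage S U := sieve_mem_J_of_fppf h₀ R hR0
  refine mem_of_local_of_isStack_subCat _ h𝒳.isStack Q hQiso hQst R hR y rfl ?_
  intro A f hf y' φ hφ
  have h1 : 𝒳.p.IsHomLift f (x.map (toId U (Over.mk f))) :=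
    isHomLift_map_over U x (toId U (Over.mk f))
  haveI h2 : 𝒳.p.IsHomLift f (x.map (toId U (Over.mk f)) ≫ e.hom) :=
    isHomLift_congr' 𝒳.p (Category.comp_id _) _
      (inferInstance : 𝒳.p.IsHomLift (f ≫ 𝟙 U) (x.map (toId U (Over.mk f)) ≫ e.hom))
  haveI := hφ
  obtain ⟨χ, -, -⟩ := IsFibGrpd.existsUnique 𝒳.p hfib (𝟙 A) f f (Category.id_comp _).symm
    (x.map (toId U (Over.mk f)) ≫ e.hom) φ
  exact hhom χ hf

/-- `S12865`: a closed substack of a reduced algebraic stack with all the points is everything. -/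
theorem forall_mem_of_closed_of_reduced (h𝒳 : AlgSt.IsAlgStack Scheme.fppfPrecoverage 𝒳)
    (hred : AlgSt.SmoothLocally (fun X => IsReduced X) 𝒳) (Q : 𝒳.obj → Prop)
    (hQ : AlgSt.IsClosedSubstack 𝒳 Q Scheme.fppfPrecoverage)
    (hpts : Set.range (AlgSt.Points.map (AlgSt.subIncl 𝒳 Q)) = Set.univ) (y : 𝒳.obj) : Q y := by
  obtain ⟨V, v, hv1, hv2⟩ := h𝒳.atlas
  haveI : IsReduced V.left := hred V v hv1
  have hv : Q (v.obj (Over.mk (𝟙 V))) :=
    mem_of_surjective_chart h𝒳.isStack.1 Q hQ.1 hQ.2.1.isStack.1 @IsClosedImmersion hQ.2.2 v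
      (fun W j hj hs => by
        haveI : IsClosedImmersion j.left := hj
        haveI : Surjective j.left := ⟨hs⟩
        exact isIso_of_isClosedImmersion_of_surjective j.left)
      (fun t => by rw [hpts]; trivial)
  exact forall_mem_of_atlas h𝒳 Q hQ.1 hQ.2.1.isStack v hv1 hv2 hv y

/-- The inverse image of a closed substack is a closed substack. -/
theorem isClosedSubstack_preimage (h𝒳 : AlgSt.IsAlgStack Scheme.fppfPrecoverage 𝒳)
    (h𝒴 : AlgSt.IsAlgStack Scheme.fppfPrecoverage 𝒴) (Q : 𝒳.obj → Prop)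
    (hQ : AlgSt.IsClosedSubstack 𝒳 Q Scheme.fppfPrecoverage) (f : 𝒴 ⥤ᵇ 𝒳) :
    AlgSt.IsClosedSubstack 𝒴 (fun y => Q (f.obj y)) Scheme.fppfPrecoverage := by
  obtain ⟨hQiso, hQalg, hQcl⟩ := hQ
  have hE := fpSubCmp_isEquivOver f Q hQiso
  refine ⟨⟨fun {a b} e ha => hQiso.of_iso (f.toFunctor.mapIso e) ha⟩, ?_, ?_⟩
  · exact (isAlgStack_iff_of_isEquivOver _ (fpSubCmp f Q) hE).2
      (isAlgStack_fp _ h𝒴 hQalg h𝒳 f (AlgSt.subIncl 𝒳 Q))
  · have h1 : AlgSt.IsClosedImm (FibCat.fpFst f (AlgSt.subIncl 𝒳 Q)) :=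
      repByAlgSpWith_fpFst _ (AlgSt.subIncl 𝒳 Q) f hQcl
    have h2 := (repByAlgSpWith_equiv_comp (AlgSp.RepWith @IsClosedImmersion) (fpSubCmp f Q) hE
      (FibCat.fpFst f (AlgSt.subIncl 𝒳 Q))).2 h1
    rw [fpSubCmp_fst] at h2
    exact h2

/-- The points of the inverse image of a substack. -/
theorem range_map_subIncl_preimage (h𝒳 : FibCat.IsFibGrpd 𝒳.p) (h𝒴 : FibCat.IsFibGrpd 𝒴.p)
    (Q : 𝒳.obj → Prop) (hQiso : ObjectProperty.IsClosedUnderIsomorphisms Q)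
    (hQfib : FibCat.IsFibGrpd (AlgSt.fullSub 𝒳 Q).p) (f : 𝒴 ⥤ᵇ 𝒳) :
    Set.range (AlgSt.Points.map (AlgSt.subIncl 𝒴 (fun y => Q (f.obj y)))) =
      AlgSt.Points.map f ⁻¹' Set.range (AlgSt.Points.map (AlgSt.subIncl 𝒳 Q)) := by
  have hE := fpSubCmp_isEquivOver f Q hQiso
  apply Set.Subset.antisymm
  · rintro _ ⟨ω, rfl⟩
    change AlgSt.Points.map f (AlgSt.Points.map (AlgSt.subIncl 𝒴 (fun y => Q (f.obj y))) ω) ∈
      Set.range (AlgSt.Points.map (AlgSt.subIncl 𝒳 Q))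
    rw [← Pts.map_comp]
    refine ⟨AlgSt.Points.map (corestrict (BasedFunctor.comp
      (AlgSt.subIncl 𝒴 (fun y => Q (f.obj y))) f) Q (fun A => A.property)) ω, ?_⟩
    rw [← Pts.map_comp]
    rfl
  · intro w hw
    obtain ⟨z, hz⟩ := hw
    obtain ⟨ω, hω, -⟩ := exists_points_fp_of_map_eq hQfib h𝒳 h𝒴 (AlgSt.subIncl 𝒳 Q) f w z hz.symm
    obtain ⟨ω', rfl⟩ := (bijective_map_of_isEquivOver (fpSubCmp f Q) hE).2 ω
    refine ⟨ω', ?_⟩
    rw [← hω, ← Pts.map_comp, fpSubCmp_fst]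

/-- `S12866`. -/
theorem forall_mem_iff_range_subset_of_reduced (h𝒳 : AlgSt.IsAlgStack Scheme.fppfPrecoverage 𝒳)
    (h𝒴 : AlgSt.IsAlgStack Scheme.fppfPrecoverage 𝒴)
    (hred : AlgSt.SmoothLocally (fun X => IsReduced X) 𝒴) (Q : 𝒳.obj → Prop)
    (hQ : AlgSt.IsClosedSubstack 𝒳 Q Scheme.fppfPrecoverage) (f : 𝒴 ⥤ᵇ 𝒳) :
    (∀ y : 𝒴.obj, Q (f.obj y)) ↔
      Set.range (AlgSt.Points.map f) ⊆ Set.range (AlgSt.Points.map (AlgSt.subIncl 𝒳 Q)) := by
  constructor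
  · rintro h _ ⟨w, rfl⟩
    obtain ⟨p, rfl⟩ := AlgSt.Points.mk_surjective w
    refine ⟨AlgSt.Points.mk ⟨p.K, p.str, ⟨f.obj p.obj, h p.obj⟩, (f.w_obj p.obj).trans p.lies⟩, ?_⟩
    rw [AlgSt.Points.map_mk, AlgSt.Points.map_mk]
    rfl
  · intro h
    have hcl := isClosedSubstack_preimage h𝒳 h𝒴 Q hQ f
    refine forall_mem_of_closed_of_reduced h𝒴 hred _ hcl ?_
    rw [range_map_subIncl_preimage h𝒳.isStack.1 h𝒴.isStack.1 Q hQ.1 hQ.2.1.isStack.1 f]
    apply Set.eq_univ_of_forall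
    intro w
    exact h ⟨w, rfl⟩

end Groth.Agent.Helper2.AlgStLib.Substack
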