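import Mathlib
import Groth.Prelude.Def_AlgSt4
import Groth.Prelude.Def_AlgSpCov
import Groth.Agent.Lib.Helper2.AlgSt.Substack.OpenChar
import Groth.Agent.Lib.Helper2.AlgSt.CancelP
import Groth.Agent.Lib.Helper2.AlgSp.Thick
import Groth.Agent.Lib.Helper2.AlgSp.OpenSub

/-!
# The open substack image of a smooth functor (helper2)
-/

set_option autoImplicit false
open CategoryTheory CategoryTheory.Functor CategoryTheory.Limits AlgebraicGeometry Opposite

universe u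

namespace Groth.Agent.Helper2.AlgStLib.Substack

open Groth.Agent.Helper2 Groth.Agent.Helper2.FibCatLib Groth.Agent.Helper2.StkLib
open Groth.Agent.Helper2.AlgSpBasic Groth.Agent.Helper2.EtaleLocal
open Groth.Agent.Helper2.AlgStLib Groth.Agent.Helper2.AlgStLib.Pts
open Groth.Agent.Helper2.AlgStLib.LocQ AlgSp

variable {S : Scheme.{u}} {𝒜 𝒳 : BasedCategory.{u, u + 1} (Over S)}

/-- The values of a functor have all their points in the image of the functor. -/
theorem ptsIn_range_obj (h𝒜 : FibCat.IsFibGrpd 𝒜.p) (h𝒳 : FibCat.IsFibGrpd 𝒳.p) (H : 𝒜 ⥤ᵇ 𝒳)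
    (a : 𝒜.obj) : PtsIn (Set.range (AlgSt.Points.map H)) (H.obj a) := by
  intro p ⟨m⟩
  obtain ⟨β, hβ⟩ := exists_base m p.lies (H.w_obj a)
  obtain ⟨a', ψ, hψ⟩ := h𝒜.exists_lift (x := a) β
  haveI := hβ
  haveI : 𝒳.p.IsHomLift β (H.map ψ) := BasedFunctor.preserves_isHomLift H β ψ
  obtain ⟨χ, -, -⟩ := IsFibGrpd.existsUnique 𝒳.p h𝒳 (𝟙 (Over.mk p.str)) β β
    (Category.id_comp _).symm (H.map ψ) m
  have ha' : 𝒜.p.obj a' = Over.mk p.str := IsHomLift.domain_eq 𝒜.p β ψ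
  refine ⟨AlgSt.Points.mk ⟨p.K, p.str, a', ha'⟩, ?_⟩
  rw [AlgSt.Points.map_mk]
  exact (mk_eq_of_hom (p := p) (q := AlgSt.FPt.map H ⟨p.K, p.str, a', ha'⟩) χ).symm

/-- The inclusion of a full subcategory closed under sources of morphisms is injective on
points. -/
theorem injective_map_subIncl (h𝒳 : FibCat.IsFibGrpd 𝒳.p) (Q : 𝒳.obj → Prop)
    (hQ : ∀ {a b : 𝒳.obj} (_ : b ⟶ a), Q a → Q b) :
    Function.Injective (AlgSt.Points.map (AlgSt.subIncl 𝒳 Q)) := by
  intro w w' h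
  obtain ⟨p, rfl⟩ := AlgSt.Points.mk_surjective w
  obtain ⟨q, rfl⟩ := AlgSt.Points.mk_surjective w'
  rw [AlgSt.Points.map_mk, AlgSt.Points.map_mk, mk_eq_mk_iff h𝒳] at h
  obtain ⟨r, α, β, -⟩ := h
  have hr : Q r.obj := hQ α p.obj.property
  let r' : AlgSt.FPt (AlgSt.fullSub 𝒳 Q) := ⟨r.K, r.str, ⟨r.obj, hr⟩, r.lies⟩
  exact AlgSt.Points.sound ⟨r', ObjectProperty.homMk α, ObjectProperty.homMk β, trivial⟩

/-- Cancellation of an open immersion on the left, for properties stable under base change. -/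
theorem cancelSp_isOpenImmersion (P : MorphismProperty (AlgSp.Sp S)) (hPb : StableBC P) :
    CancelSp P (AlgSp.RepWith @IsOpenImmersion) := by
  intro X Y Z hX hY hZ a b hab hb
  haveI := mono_of_repWith_isOpenImmersion b hb
  exact hPb hX hZ hX hY (a ≫ b) b a (𝟙 X) (isPullback_id_of_mono b (a ≫ b) a rfl) hab

/-- The image on points of a smooth functor between algebraic stacks is open. -/
theorem isOpen_range_map_of_smooth (h𝒜 : AlgSt.IsAlgStack Scheme.fppfPrecoverage 𝒜)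
    (h𝒳 : AlgSt.IsAlgStack Scheme.fppfPrecoverage 𝒳) (H : 𝒜 ⥤ᵇ 𝒳) (hH : Sm H) :
    IsOpen (Set.range (AlgSt.Points.map H)) :=
  (isOpenMor_of_flat_of_lfp h𝒜 h𝒳 H
    (locQ_locP_of_repByAlgSpWith @Flat isSmoothLocalST_locP_flat h𝒜 h𝒳 H
      (repByAlgSpWith_flat_of_smooth hH))
    (locQ_locP_of_repByAlgSpWith @LocallyOfFinitePresentation isSmoothLocalST_locP_lfp h𝒜 h𝒳 H
      (repByAlgSpWith_lfp_of_smooth hH))).isOpen_range

/-- **The image of a smooth functor is an open substack**, over which the functor is smooth and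
surjective. -/
theorem exists_image_of_smooth (h𝒜 : AlgSt.IsAlgStack Scheme.fppfPrecoverage 𝒜)
    (h𝒳 : AlgSt.IsAlgStack Scheme.fppfPrecoverage 𝒳) (H : 𝒜 ⥤ᵇ 𝒳) (hH : Sm H) :
    ∃ (hobj : ∀ a, PtsIn (Set.range (AlgSt.Points.map H)) (H.obj a)),
      AlgSt.IsOpenSubstack 𝒳 (PtsIn (Set.range (AlgSt.Points.map H))) Scheme.fppfPrecoverage ∧
      Sm (corestrict H (PtsIn (Set.range (AlgSt.Points.map H))) hobj) ∧
      Sj (corestrict H (PtsIn (Set.range (AlgSt.Points.map H))) hobj) := by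
  have hobj := ptsIn_range_obj h𝒜.isStack.1 h𝒳.isStack.1 H
  have hopen := isOpen_range_map_of_smooth h𝒜 h𝒳 H hH
  have hsub := isOpenSubstack_ptsIn h𝒳 _ hopen
  have hsm : Sm (corestrict H (PtsIn (Set.range (AlgSt.Points.map H))) hobj) :=
    repByAlgSpWith_of_comp_cancel (AlgSp.LocP @Smooth) (AlgSp.RepWith @IsOpenImmersion)
      (stableBC_locP @Smooth) (cancelSp_isOpenImmersion _ (stableBC_locP @Smooth))
      (corestrict H _ hobj) (AlgSt.subIncl 𝒳 _) hH hsub.2.2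
  refine ⟨hobj, hsub, hsm, ?_⟩
  refine repByAlgSpWith_of_isSurjective h𝒜.isStack.1 hsub.2.1.isStack.1 _
    (repByAlgSp1_of_repByAlgSpWith _ hsm) ?_
  intro w
  have h1 : AlgSt.Points.map (AlgSt.subIncl 𝒳 (PtsIn (Set.range (AlgSt.Points.map H)))) w ∈
      Set.range (AlgSt.Points.map H) := by
    have := Set.mem_range_self (f := AlgSt.Points.map
      (AlgSt.subIncl 𝒳 (PtsIn (Set.range (AlgSt.Points.map H))))) w
    rwa [range_map_subIncl_ptsIn] at this
  obtain ⟨v, hv⟩ := h1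
  refine ⟨v, ?_⟩
  apply injective_map_subIncl h𝒳.isStack.1 _ (fun φ h => ptsIn_of_hom φ h)
  rw [← map_comp]
  exact hv

end Groth.Agent.Helper2.AlgStLib.Substack
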