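import Mathlib
import Groth.Prelude.Def_AlgSt4
import Groth.Prelude.Def_AlgSpCov
import Groth.Agent.Lib.Helper2.AlgSt.LocQ.Space
import Groth.Agent.Lib.Helper2.AlgSt.Substack.OpenPts

/-!
# Immersions into locally Noetherian algebraic stacks (helper2)
-/

set_option autoImplicit false
open CategoryTheory CategoryTheory.Functor CategoryTheory.Limits AlgebraicGeometry Opposite

universe u

namespace Groth.Agent.Helper2.AlgStLib.Substack

open Groth.Agent.Helper2 Groth.Agent.Helper2.FibCatLib Groth.Agent.Helper2.StkLib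
open Groth.Agent.Helper2.AlgSpBasic Groth.Agent.Helper2.EtaleLocal
open Groth.Agent.Helper2.AlgStLib Groth.Agent.Helper2.AlgStLib.Pts
open Groth.Agent.Helper2.AlgStLib.LocQ AlgSp

variable {S : Scheme.{u}}

/-- An immersion into a locally Noetherian scheme is quasi-compact. -/
theorem quasiCompact_of_isImmersion {Z V : Scheme.{u}} [IsLocallyNoetherian V] (z : Z ⟶ V)
    [IsImmersion z] : QuasiCompact z := by
  rw [← z.liftCoborder_ι]
  infer_instance

/-- For a map of sheaves to a scheme, a representable property can be improved using the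
property of the one scheme morphism representing the map. -/
theorem repWith_of_yon_target (P P' : MorphismProperty Scheme.{u}) [P'.IsStableUnderBaseChange]
    {F : Sp S} {V : Over S} (a : F ⟶ (yon S).obj V) (ha : RepWith P a)
    (himp : ∀ (Z : Over S) (z : Z ⟶ V), P z.left → P' z.left) : RepWith P' a := by
  have hrep : Representable a := ha.rep
  have sq := hrep.isPullback (𝟙 ((yon S).obj V))
  have hP : P (hrep.snd (𝟙 _)).left := ha.property (𝟙 _) _ _ sq
  haveI : IsIso (hrep.fst (𝟙 ((yon S).obj V))) := sq.isIso_fst_of_isIso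
  have h1 : RepWith P' ((yon S).map (hrep.snd (𝟙 ((yon S).obj V)))) :=
    (repWith_yon_map_iff P' _).2 (himp _ _ hP)
  have h2 : a = inv (hrep.fst (𝟙 ((yon S).obj V))) ≫
      (yon S).map (hrep.snd (𝟙 ((yon S).obj V))) := by
    rw [IsIso.eq_inv_comp, sq.w, Category.comp_id]
  rw [h2]
  haveI : P'.RespectsIso := MorphismProperty.IsStableUnderBaseChange.respectsIso
  exact repWith_of_iso_comp P' _ h1

variable {𝒳 𝒴 : BasedCategory.{u, u + 1} (Over S)}

/-- An immersion into a locally Noetherian algebraic stack is quasi-compact. -/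
theorem isQuasiCompactMor_of_isImm_of_locallyNoetherian
    (h𝒳 : AlgSt.IsAlgStack Scheme.fppfPrecoverage 𝒳)
    (h𝒴 : AlgSt.IsAlgStack Scheme.fppfPrecoverage 𝒴) (j : 𝒳 ⥤ᵇ 𝒴) (hj : AlgSt.IsImm j)
    (hN : AlgSt.SmoothLocally (fun T ↦ IsLocallyNoetherian T) 𝒴) :
    AlgSt.IsQuasiCompactMor Scheme.fppfPrecoverage j := by
  obtain ⟨V, v, hv1, hv2⟩ := h𝒴.atlas
  haveI hVN : IsLocallyNoetherian V.left := hN V v hv1
  have hW := isAlgStack_overCat (S := S) V
  refine isQuasiCompactMor_of_fpFst_of_fppf_rep h𝒳 h𝒴 hW j v (repByAlgSpWith_flat_of_smooth hv1)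
    (repByAlgSpWith_lfp_of_smooth hv1) hv2 ?_
  have h𝒬 : AlgSt.IsAlgStack Scheme.fppfPrecoverage (FibCat.fp v j) :=
    isAlgStack_fp _ hW h𝒳 h𝒴 v j
  have hrep : AlgSt.RepByAlgSp1 (FibCat.fpFst v j) :=
    repByAlgSp1_of_repByAlgSpWith _ (repByAlgSpWith_fpFst _ j v hj)
  refine (repByAlgSpWith_isQuasiCompactMor_iff h𝒬.isStack.1 hW.isStack.1 (FibCat.fpFst v j)
    hrep).1 ?_
  obtain ⟨F, e, he, ha⟩ := hj V v
  have hq : AlgSp.IsQuasiCompactMor
      (AlgSt.spMapOfOver (BasedFunctor.comp e (FibCat.fpFst v j))) :=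
    isQuasiCompactMor_of_repWith F.property (IsAlgSpace.yon_obj V).diag _
      (repWith_of_yon_target @IsImmersion @QuasiCompact _ ha (fun Z z hz => by
        haveI : IsImmersion z.left := hz
        exact quasiCompact_of_isImmersion z.left))
  obtain ⟨θ⟩ := ofSpMap_spMapOfOver_iso (BasedFunctor.comp e (FibCat.fpFst v j))
  exact repByAlgSpWith_of_both _ stableBC_isQuasiCompactMor F
    ⟨(yon S).obj V, IsAlgSpace.yon_obj V⟩ e he (AlgSt.toOverCat V) (toOverCat_isEquivOver V)
    (FibCat.fpFst v j) _ θ hq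

/-- A monomorphism of algebraic stacks is quasi-separated. -/
theorem isQuasiSeparatedMor_of_isMono (f : 𝒳 ⥤ᵇ 𝒴) (h : AlgSt.IsMono f) :
    AlgSt.IsQuasiSeparatedMor f := by
  have h1 : AlgSt.IsSeparatedMor f := (isSeparatedMor_and_isDMMor_of_isMono f h).1
  refine repByAlgSpWith_mono ?_ (FibCat.diag f) h1
  intro A B m hm
  exact ⟨hm.2.1.2, repWith_mono
    (fun _ _ g (hg : IsClosedImmersion g) => (inferInstance : QuasiCompact g)) hm.1⟩

/-- The source of a monomorphism into a stack quasi-separated over the base is quasi-separated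
over the base. -/
theorem isQuasiSeparatedOver_of_isMono (h𝒳 : FibCat.IsFibGrpd 𝒳.p) (h𝒴 : FibCat.IsFibGrpd 𝒴.p)
    (j : 𝒳 ⥤ᵇ 𝒴) (hj : AlgSt.IsMono j) (hs : AlgSt.IsQuasiSeparatedOver 𝒴) :
    AlgSt.IsQuasiSeparatedOver 𝒳 := by
  have h1 := repByAlgSpWith_diag_comp h𝒳 h𝒴 _ stableBC_qcqs stableComp_qcqs
    isLocalOnBase_fppf_qcqs j (FibCat.toSelf 𝒴) (isQuasiSeparatedMor_of_isMono j hj) hs
  rw [comp_toSelf] at h1
  exact h1

end Groth.Agent.Helper2.AlgStLib.Substack
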