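import Mathlib
import Groth.Prelude.Def_AlgSt4
import Groth.Prelude.Def_AlgSpCov
import Groth.Agent.Lib.Helper2.AlgSt.Substack.OpenSubStack

/-!
# Open substacks from open predicates (helper2)

A predicate on the objects of an algebraic stack which is stable under sources of morphisms and
is, on every chart, the condition of factoring through an open subscheme, cuts out an open
substack.
-/

set_option autoImplicit false
open CategoryTheory CategoryTheory.Functor CategoryTheory.Limits AlgebraicGeometry Opposite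

universe u

namespace Groth.Agent.Helper2.AlgStLib.Substack

open Groth.Agent.Helper2 Groth.Agent.Helper2.FibCatLib Groth.Agent.Helper2.StkLib
open Groth.Agent.Helper2.AlgSpBasic Groth.Agent.Helper2.EtaleLocal
open Groth.Agent.Helper2.AlgStLib Groth.Agent.Helper2.AlgStLib.Pts
open Groth.Agent.Helper2.AlgStLib.LocQ

variable {S : Scheme.{u}} {𝒳 : BasedCategory.{u, u + 1} (Over S)}

/-- The openness condition on a predicate on objects. -/
def IsOpenPred (Q : 𝒳.obj → Prop) : Prop :=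
  ∀ (U : Over S) (x : FibCat.overCat U ⥤ᵇ 𝒳), ∃ V : U.left.Opens,
    ∀ A : Over U, Q (x.obj A) ↔ ∃ g' : A.left.left ⟶ ↑V, g' ≫ V.ι = A.hom.left

variable (Q : 𝒳.obj → Prop) (hsrc : ∀ {a b : 𝒳.obj} (_ : b ⟶ a), Q a → Q b)
  (hopen : IsOpenPred Q)

include hsrc in
theorem isClosedUnderIsomorphisms_of_src : ObjectProperty.IsClosedUnderIsomorphisms Q :=
  ⟨fun e h => hsrc e.inv h⟩

include hopen in
/-- The inclusion of the full subcategory cut out by an open predicate is an open immersion. -/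
theorem isOpenImm_subIncl_of_isOpenPred
    (hiso : ObjectProperty.IsClosedUnderIsomorphisms Q) :
    AlgSt.IsOpenImm (AlgSt.subIncl 𝒳 Q) := by
  intro U x
  obtain ⟨W, hW⟩ := hopen U x
  let W' : Over S := Over.mk (W.ι ≫ U.hom)
  let j : W' ⟶ U := Over.homMk W.ι rfl
  haveI : Mono j := (Over.forget S).mono_of_mono_map (inferInstanceAs (Mono W.ι))
  let R : (FibCat.overCat U).obj → Prop := fun A => Q (x.obj A)
  have hR : ∀ A : Over U, R A ↔ ∃ A' : A.left ⟶ W', A' ≫ j = A.hom := by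
    intro A
    change Q (x.obj A) ↔ _
    rw [hW A]
    constructor
    · rintro ⟨g', hg'⟩
      refine ⟨Over.homMk g' ?_, ?_⟩
      · change g' ≫ W.ι ≫ U.hom = A.left.hom
        rw [← Category.assoc, hg', Over.w]
      · apply Over.OverMorphism.ext
        exact hg'
    · rintro ⟨A', hA'⟩
      refine ⟨A'.left, ?_⟩
      rw [← hA']
      rfl
  let E : FibCat.overCat W' ⥤ᵇ FibCat.fp x (AlgSt.subIncl 𝒳 Q) :=
    BasedFunctor.comp (overSubCmp j R hR) (fpSubCmp x Q)
  have hE : FibCat.IsEquivOver E :=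
    ReprInv.isEquivOver_comp (overSubCmp_isEquivOver j R hR)
      (fpSubCmp_isEquivOver x Q hiso)
  refine ⟨⟨(AlgSp.yon S).obj W', AlgSp.IsAlgSpace.yon_obj W'⟩,
    BasedFunctor.comp (AlgSt.toOverCat W') E,
    ReprInv.isEquivOver_comp (toOverCat_isEquivOver W') hE, ?_⟩
  have h2 : BasedFunctor.comp (BasedFunctor.comp (AlgSt.toOverCat W') E)
      (FibCat.fpFst x (AlgSt.subIncl 𝒳 Q)) =
      BasedFunctor.comp (AlgSt.toOverCat W') (AlgSt.overMap j) := rfl
  rw [h2, spMapOfOver_toOverCat_overMap]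
  exact (AlgSp.repWith_yon_map_iff @IsOpenImmersion j).2 (inferInstanceAs (IsOpenImmersion W.ι))

include hsrc hopen in
/-- Membership in an open predicate is local for the fppf topology. -/
theorem isOpenPred_local (h𝒳 : FibCat.IsFibGrpd 𝒳.p) {U : Over S}
    (R : Sieve U) (hR : R ∈ QuotSh.J Scheme.fppfPrecoverage S U) (x : 𝒳.obj)
    (hx : 𝒳.p.obj x = U)
    (hloc : ∀ ⦃V : Over S⦄ (f : V ⟶ U), R f → ∀ (y : 𝒳.obj) (φ : y ⟶ x),
      𝒳.p.IsHomLift f φ → Q y) : Q x := by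
  haveI := isFibered_of_isFibGrpd 𝒳.p h𝒳
  obtain ⟨e, he⟩ := yonedaFunctor_obj_id_iso hx
  refine hsrc e.inv ?_
  change Q ((yonedaFunctor hx).obj (Over.mk (𝟙 U)))
  obtain ⟨W, hW⟩ := hopen U (yonedaFunctor hx)
  have htop : W = ⊤ := by
    rw [eq_top_iff]
    rintro v -
    obtain ⟨V, h, w, hRh, rfl⟩ := exists_arrow_of_mem_J R hR v
    have h1 : 𝒳.p.IsHomLift h ((yonedaFunctor hx).map (toId U (Over.mk h))) :=
      isHomLift_map_over U (yonedaFunctor hx) (toId U (Over.mk h))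
    have h2 : 𝒳.p.IsHomLift h ((yonedaFunctor hx).map (toId U (Over.mk h)) ≫ e.hom) :=
      isHomLift_congr' 𝒳.p (Category.comp_id _) _
        (inferInstance :
          𝒳.p.IsHomLift (h ≫ 𝟙 U) ((yonedaFunctor hx).map (toId U (Over.mk h)) ≫ e.hom))
    have h3 := hloc h hRh _ _ h2
    obtain ⟨g', hg'⟩ := (hW (Over.mk h)).1 h3
    have h4 : h.left w = W.ι (g' w) := by
      change (Over.mk h).hom.left w = _
      rw [← hg']
      rfl
    rw [h4]
    exact (g' w).2
  rw [hW (Over.mk (𝟙 U))]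
  subst htop
  exact ⟨U.left.topIso.inv, Scheme.toIso_inv_ι U.left⟩

include hsrc hopen in
/-- The full subcategory on an open predicate is a stack. -/
theorem isStack_fullSub_of_isOpenPred
    (h𝒳 : Stk.IsStack (QuotSh.J Scheme.fppfPrecoverage S) 𝒳) :
    Stk.IsStack (QuotSh.J Scheme.fppfPrecoverage S) (AlgSt.fullSub 𝒳 Q) := by
  change Stk.IsStack (QuotSh.J Scheme.fppfPrecoverage S) (StkLib.subCat 𝒳 Q)
  have h1 : ∀ ⦃y x : 𝒳.obj⦄ (_ : y ⟶ x), Q x → ∃ (y' : 𝒳.obj) (e : y ≅ y'), Q y' ∧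
      𝒳.p.IsHomLift (𝟙 (𝒳.p.obj y)) e.hom := by
    intro y x φ hx
    exact ⟨y, Iso.refl y, hsrc φ hx, IsHomLift.id rfl⟩
  have hsub := isFibGrpd_subCat Q h𝒳.1 h1
  refine ⟨hsub, ?_⟩
  intro U R hR
  have e𝒳 : (Stk.resSieve R 𝒳).IsEquivalence := h𝒳.2 R hR
  obtain ⟨hfull, hfaith⟩ := restr_full_faithful_of_ff (Stk.sieveIncl R)
    (StkLib.subIncl 𝒳 Q) e𝒳.full e𝒳.faithful
  have hes := restr_sub_essSurj Q h𝒳.1 h1 R e𝒳.essSurj
    (fun x hx hloc => ⟨x, Iso.refl x, isOpenPred_local Q hsrc hopen h𝒳.1 R hR x hx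
      (fun V f hf y φ hφ => by
        obtain ⟨y', e', hy', -⟩ := hloc f hf y φ hφ
        exact hsrc e'.hom hy'), IsHomLift.id hx⟩)
  exact { }

include hsrc hopen in
/-- **An open predicate stable under sources cuts out an open substack.** -/
theorem isOpenSubstack_of_isOpenPred (h𝒳 : AlgSt.IsAlgStack Scheme.fppfPrecoverage 𝒳) :
    AlgSt.IsOpenSubstack 𝒳 Q Scheme.fppfPrecoverage := by
  have hiso := isClosedUnderIsomorphisms_of_src Q hsrc
  have hop := isOpenImm_subIncl_of_isOpenPred Q hopen hiso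
  refine ⟨hiso, ?_, hop⟩
  exact isAlgStack_of_repByAlgSp1 _ h𝒳 (isStack_fullSub_of_isOpenPred Q hsrc hopen h𝒳.isStack)
    (AlgSt.subIncl 𝒳 Q) (repByAlgSp1_of_repByAlgSpWith _ hop)

end Groth.Agent.Helper2.AlgStLib.Substack
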