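import Mathlib
import Groth.Prelude.Def_AlgSt4
import Groth.Prelude.Def_AlgSpCov
import Groth.Agent.Lib.Helper2.AlgSt.Substack.Image
import Groth.Agent.Lib.Helper2.AlgSt.LocQ.Main
import Groth.Agent.Lib.Helper2.AlgSp.SmoothLocalSmooth

/-!
# The largest open substack on which a morphism of algebraic stacks is smooth (helper2)
-/

set_option autoImplicit false
open CategoryTheory CategoryTheory.Functor CategoryTheory.Limits AlgebraicGeometry Opposite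

universe u

namespace Groth.Agent.Helper2.AlgStLib.Substack

open Groth.Agent.Helper2 Groth.Agent.Helper2.FibCatLib Groth.Agent.Helper2.StkLib
open Groth.Agent.Helper2.AlgSpBasic Groth.Agent.Helper2.EtaleLocal
open Groth.Agent.Helper2.AlgStLib Groth.Agent.Helper2.AlgStLib.Pts
open Groth.Agent.Helper2.AlgStLib.LocQ AlgSp

/-- The largest open subscheme of the source on which a morphism of schemes has a property that
is Zariski local on the source. -/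
theorem exists_largest_open (P : MorphismProperty Scheme.{u}) [IsZariskiLocalAtSource P]
    {X Y : Scheme.{u}} (h : X ⟶ Y) :
    ∃ W : X.Opens, P (W.ι ≫ h) ∧ ∀ W₀ : X.Opens, P (W₀.ι ≫ h) → W₀ ≤ W := by
  let 𝒮 : Set X.Opens := {W₀ | P (W₀.ι ≫ h)}
  refine ⟨sSup 𝒮, ?_, fun W₀ h₀ => le_sSup h₀⟩
  refine IsZariskiLocalAtSource.of_iSup_eq_top (P := P)
    (fun i : 𝒮 => (sSup 𝒮).ι ⁻¹ᵁ i.1) ?_ ?_
  · rw [eq_top_iff]
    rintro x -
    have hx : (sSup 𝒮).ι x ∈ sSup 𝒮 := x.2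
    obtain ⟨W₀, hW₀, hxW₀⟩ := TopologicalSpace.Opens.mem_sSup.1 hx
    exact TopologicalSpace.Opens.mem_iSup.2 ⟨⟨W₀, hW₀⟩, hxW₀⟩
  · intro i
    have hr : Set.range (((sSup 𝒮).ι ⁻¹ᵁ i.1).ι ≫ (sSup 𝒮).ι) ⊆ Set.range i.1.ι := by
      rw [Scheme.Opens.range_ι]
      rintro _ ⟨v, rfl⟩
      exact v.2
    let l := IsOpenImmersion.lift i.1.ι (((sSup 𝒮).ι ⁻¹ᵁ i.1).ι ≫ (sSup 𝒮).ι) hr
    have hl : l ≫ i.1.ι = ((sSup 𝒮).ι ⁻¹ᵁ i.1).ι ≫ (sSup 𝒮).ι :=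
      IsOpenImmersion.lift_fac _ _ _
    haveI : IsOpenImmersion (l ≫ i.1.ι) := by
      rw [hl]
      infer_instance
    haveI : IsOpenImmersion l := IsOpenImmersion.of_comp l i.1.ι
    have h2 : ((sSup 𝒮).ι ⁻¹ᵁ i.1).ι ≫ (sSup 𝒮).ι ≫ h = l ≫ i.1.ι ≫ h := by
      rw [← Category.assoc, ← hl, Category.assoc]
    rw [h2]
    exact IsZariskiLocalAtSource.comp i.2 l

variable {S : Scheme.{u}} {𝒳 𝒴 𝒵 𝒜 : BasedCategory.{u, u + 1} (Over S)}

section Restrict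

variable (f : 𝒳 ⥤ᵇ 𝒴) (z : 𝒵 ⥤ᵇ 𝒴) (Q : 𝒳.obj → Prop) (H : 𝒜 ⥤ᵇ FibCat.fp f z)
  (hH : ∀ a, Q ((H.obj a).obj.fst))

/-- A functor into `𝒳 ×_𝒴 𝒵` whose first components lie in the full subcategory `Q` of `𝒳`
factors through `Q ×_𝒴 𝒵`. -/
def fpRestrict : 𝒜 ⥤ᵇ FibCat.fp (BasedFunctor.comp (AlgSt.subIncl 𝒳 Q) f) z :=
  FibCat.fpLift (F := BasedFunctor.comp (AlgSt.subIncl 𝒳 Q) f) (G := z)
    (corestrict (BasedFunctor.comp H (FibCat.fpFst f z)) Q hH)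
    (BasedFunctor.comp H (FibCat.fpSnd f z)) (whiskerLeftIso H (FibCat.fpIso f z))

theorem fpRestrict_mapFst : BasedFunctor.comp (fpRestrict f z Q H hH)
    (FpBC.mapFst f z (AlgSt.subIncl 𝒳 Q)) = H := rfl

theorem fpRestrict_snd : BasedFunctor.comp (fpRestrict f z Q H hH)
    (FibCat.fpSnd (BasedFunctor.comp (AlgSt.subIncl 𝒳 Q) f) z) =
    BasedFunctor.comp H (FibCat.fpSnd f z) := rfl

theorem fpRestrict_fst : BasedFunctor.comp (fpRestrict f z Q H hH)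
    (FibCat.fpFst (BasedFunctor.comp (AlgSt.subIncl 𝒳 Q) f) z) =
    corestrict (BasedFunctor.comp H (FibCat.fpFst f z)) Q hH := rfl

/-- If the inclusion of `Q` is an open immersion, the restricted functor inherits every property
stable under base change. -/
theorem repByAlgSpWith_fpRestrict (P : MorphismProperty (AlgSp.Sp S)) (hPb : StableBC P)
    (hQ : AlgSt.IsOpenImm (AlgSt.subIncl 𝒳 Q)) (hHP : AlgSt.RepByAlgSpWith P H) :
    AlgSt.RepByAlgSpWith P (fpRestrict f z Q H hH) :=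
  repByAlgSpWith_of_comp_cancel P (AlgSp.RepWith @IsOpenImmersion) hPb
    (cancelSp_isOpenImmersion P hPb) (fpRestrict f z Q H hH)
    (FpBC.mapFst f z (AlgSt.subIncl 𝒳 Q)) hHP
    (repByAlgSpWith_mapFst _ f z (AlgSt.subIncl 𝒳 Q) hQ)

end Restrict

section Crux

variable {P : MorphismProperty (AlgSp.Sp S)} (hP : AlgSp.IsSmoothLocalST P)

include hP in
/-- **Restriction of a good chart to an open substack of the source.**  If `f` restricted to the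
open substack `Q'` has `P`, then the chart map `h` of a good chart `c` of `𝒳 ×_𝒴 V` has `P` on
every smooth `W ⟶ U` over which the first component of `c` lies in `Q'`. -/
theorem prop_restrict_of_locQ (h𝒳 : AlgSt.IsAlgStack Scheme.fppfPrecoverage 𝒳)
    (h𝒴 : AlgSt.IsAlgStack Scheme.fppfPrecoverage 𝒴) (f : 𝒳 ⥤ᵇ 𝒴) {U V : Over S}
    (y : FibCat.overCat V ⥤ᵇ 𝒴) (hy : Sm y) (c : FibCat.overCat U ⥤ᵇ FibCat.fp f y) (hc : Sm c)
    (h : U ⟶ V) (e : BasedFunctor.comp c (FibCat.fpSnd f y) ≅ AlgSt.overMap h)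
    (Q' : 𝒳.obj → Prop) (hQ' : AlgSt.IsOpenSubstack 𝒳 Q' Scheme.fppfPrecoverage)
    (hloc : AlgSt.LocQ P (BasedFunctor.comp (AlgSt.subIncl 𝒳 Q') f))
    {W : Over S} (j : W ⟶ U) [Smooth j.left]
    (hj : ∀ A : Over W, Q' ((c.obj ((AlgSt.overMap j).obj A)).obj.fst)) :
    P ((AlgSp.yon S).map (j ≫ h)) := by
  have h𝒬 : AlgSt.IsAlgStack Scheme.fppfPrecoverage (FibCat.fp f y) :=
    isAlgStack_fp _ h𝒳 (isAlgStack_overCat V) h𝒴 f y
  let H : FibCat.overCat W ⥤ᵇ FibCat.fp f y := BasedFunctor.comp (AlgSt.overMap j) c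
  have hH : Sm H := sm_comp (isFibGrpd_overCat W) (isFibGrpd_overCat U) _ _ (sm_overMap j) hc
  have hc' : Sm (fpRestrict f y Q' H hj) :=
    repByAlgSpWith_fpRestrict f y Q' H hj _ (stableBC_locP @Smooth) hQ'.2.2 hH
  refine prop_of_locQ hP hQ'.2.1 h𝒴 _ hloc y hy (fpRestrict f y Q' H hj) hc' (j ≫ h) ?_
  exact whiskerLeftIso (AlgSt.overMap j) e ≪≫ overMapCompIso j h

end Crux

/-- **`S13037`: the largest open substack on which a morphism of algebraic stacks is smooth.** -/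
theorem exists_largest_smooth_open (h𝒳 : AlgSt.IsAlgStack Scheme.fppfPrecoverage 𝒳)
    (h𝒴 : AlgSt.IsAlgStack Scheme.fppfPrecoverage 𝒴) (f : 𝒳 ⥤ᵇ 𝒴) :
    ∃ Q : 𝒳.obj → Prop, AlgSt.IsOpenSubstack 𝒳 Q Scheme.fppfPrecoverage ∧
      AlgSt.LocQ (AlgSp.LocP @Smooth) (BasedFunctor.comp (AlgSt.subIncl 𝒳 Q) f) ∧
      ∀ Q' : 𝒳.obj → Prop, AlgSt.IsOpenSubstack 𝒳 Q' Scheme.fppfPrecoverage →
        AlgSt.LocQ (AlgSp.LocP @Smooth) (BasedFunctor.comp (AlgSt.subIncl 𝒳 Q') f) →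
        ∀ a, Q' a → Q a := by
  obtain ⟨V, y, hy1, hy2⟩ := h𝒴.atlas
  have h𝒬 : AlgSt.IsAlgStack Scheme.fppfPrecoverage (FibCat.fp f y) :=
    isAlgStack_fp _ h𝒳 (isAlgStack_overCat V) h𝒴 f y
  obtain ⟨U, c, hc1, hc2⟩ := h𝒬.atlas
  obtain ⟨h, α, ⟨e⟩, hx, -, hs⟩ := exists_good_square h𝒳 h𝒴 f y hy1 c hc1
  have hxs := hs hy2 hc2
  obtain ⟨W, hW, hWmax⟩ := exists_largest_open @Smooth h.left
  let W' : Over S := Over.mk (W.ι ≫ U.hom)
  let j : W' ⟶ U := Over.homMk W.ι rfl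
  haveI : IsOpenImmersion j.left := inferInstanceAs (IsOpenImmersion W.ι)
  haveI : Smooth j.left := inferInstance
  let x : FibCat.overCat U ⥤ᵇ 𝒳 := BasedFunctor.comp c (FibCat.fpFst f y)
  let H : FibCat.overCat W' ⥤ᵇ 𝒳 := BasedFunctor.comp (AlgSt.overMap j) x
  have hH : Sm H := sm_comp (isFibGrpd_overCat W') (isFibGrpd_overCat U) _ _ (sm_overMap j) hx
  obtain ⟨hobj, hsub, hsm, hsj⟩ := exists_image_of_smooth (isAlgStack_overCat W') h𝒳 H hH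
  refine ⟨PtsIn (Set.range (AlgSt.Points.map H)), hsub, ?_, ?_⟩
  · refine ⟨W', V, corestrict H _ hobj, y, j ≫ h, ?_, hsm, hsj, hy1, ?_⟩
    · exact whiskerLeftIso (AlgSt.overMap j) α ≪≫ (postF _ y).mapIso (overMapCompIso j h)
    · haveI : Smooth (j ≫ h).left := hW
      exact locP_smooth_yon_map (j ≫ h)
  · intro Q' hQ' hloc a ha
    have ha' := (isOpenSubstack_iff_ptsIn h𝒳 Q' hQ' a).1 ha
    refine ptsIn_mono ?_ a ha'
    intro t ht
    obtain ⟨u, rfl⟩ := surjective_ofChart h𝒳.isStack.1 x hxs t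
    have hT' : IsOpen (Set.range (AlgSt.Points.map (AlgSt.subIncl 𝒳 Q'))) :=
      isOpen_range_of_isOpenImm hQ'.2.1 h𝒳 _ hQ'.2.2
    let W₂ : U.left.Opens := ⟨AlgSt.Points.ofChart x ⁻¹'
      Set.range (AlgSt.Points.map (AlgSt.subIncl 𝒳 Q')), hT'.preimage (continuous_ofChart h𝒳 x)⟩
    let W₂' : Over S := Over.mk (W₂.ι ≫ U.hom)
    let j₂ : W₂' ⟶ U := Over.homMk W₂.ι rfl
    haveI : IsOpenImmersion j₂.left := inferInstanceAs (IsOpenImmersion W₂.ι)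
    haveI : Smooth j₂.left := inferInstance
    have hj₂ : ∀ A : Over W₂', Q' ((c.obj ((AlgSt.overMap j₂).obj A)).obj.fst) := by
      intro A
      rw [isOpenSubstack_iff_ptsIn h𝒳 Q' hQ']
      change PtsIn _ (x.obj ((AlgSt.overMap j₂).obj A))
      rw [ptsIn_chart_iff h𝒳.isStack.1 x]
      intro v
      exact (A.hom.left v).2
    have hsmooth := prop_restrict_of_locQ isSmoothLocalST_locP_smooth h𝒳 h𝒴 f y hy1 c hc1 h e
      Q' hQ' hloc j₂ hj₂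
    have hsm₂ : Smooth (W₂.ι ≫ h.left) := (locP_yon_map_iff @Smooth (j₂ ≫ h)).1 hsmooth
    have hle : W₂ ≤ W := hWmax W₂ hsm₂
    have hu : u ∈ W := hle ht
    refine ⟨ptEquiv W' ⟨u, hu⟩, ?_⟩
    rw [← ofChart_eq_map_ptEquiv]
    exact ofChart_overMap j x ⟨u, hu⟩

end Groth.Agent.Helper2.AlgStLib.Substack
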