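import Mathlib
import Groth.Prelude.Def_AlgSt4
import Groth.Prelude.Def_AlgSpCov
import Groth.Agent.Lib.Helper2.AlgSt.Substack.SmoothLocus
import Groth.Agent.Lib.Helper2.AlgSt.Substack.Reduced
import Groth.Agent.Lib.Helper2.AlgSt.LocQ.BaseChange
import Groth.Agent.Lib.Helper2.AlgSt.LocQ.Space

/-!
# The smooth locus commutes with smooth precomposition (helper2)
-/

set_option autoImplicit false
open CategoryTheory CategoryTheory.Functor CategoryTheory.Limits AlgebraicGeometry Opposite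

universe u

namespace Groth.Agent.Helper2.AlgStLib.Substack

open Groth.Agent.Helper2 Groth.Agent.Helper2.FibCatLib Groth.Agent.Helper2.StkLib
open Groth.Agent.Helper2.AlgSpBasic Groth.Agent.Helper2.EtaleLocal
open Groth.Agent.Helper2.AlgStLib Groth.Agent.Helper2.AlgStLib.Pts
open Groth.Agent.Helper2.AlgStLib.LocQ AlgSp

variable {S : Scheme.{u}} {𝒳 𝒴 𝒳' : BasedCategory.{u, u + 1} (Over S)}

/-- The inverse image of an open substack is an open substack. -/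
theorem isOpenSubstack_preimage (h𝒳 : AlgSt.IsAlgStack Scheme.fppfPrecoverage 𝒳)
    (h𝒴 : AlgSt.IsAlgStack Scheme.fppfPrecoverage 𝒴) (Q : 𝒳.obj → Prop)
    (hQ : AlgSt.IsOpenSubstack 𝒳 Q Scheme.fppfPrecoverage) (f : 𝒴 ⥤ᵇ 𝒳) :
    AlgSt.IsOpenSubstack 𝒴 (fun y => Q (f.obj y)) Scheme.fppfPrecoverage := by
  obtain ⟨hQiso, hQalg, hQcl⟩ := hQ
  have hE := fpSubCmp_isEquivOver f Q hQiso
  refine ⟨⟨fun {a b} e ha => hQiso.of_iso (f.toFunctor.mapIso e) ha⟩, ?_, ?_⟩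
  · exact (isAlgStack_iff_of_isEquivOver _ (fpSubCmp f Q) hE).2
      (isAlgStack_fp _ h𝒴 hQalg h𝒳 f (AlgSt.subIncl 𝒳 Q))
  · have h1 : AlgSt.IsOpenImm (FibCat.fpFst f (AlgSt.subIncl 𝒳 Q)) :=
      repByAlgSpWith_fpFst _ (AlgSt.subIncl 𝒳 Q) f hQcl
    have h2 := (repByAlgSpWith_equiv_comp (AlgSp.RepWith @IsOpenImmersion) (fpSubCmp f Q) hE
      (FibCat.fpFst f (AlgSt.subIncl 𝒳 Q))).2 h1
    rw [fpSubCmp_fst] at h2
    exact h2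

theorem isSmoothStable_locP_smooth : IsSmoothStable (S := S) (AlgSp.LocP @Smooth) :=
  IsSmoothStable.of_local isSmoothLocalST_locP_smooth

/-- The restriction of a smooth morphism to the inverse image of a substack is smooth. -/
theorem locQ_smooth_corestrict_preimage (h𝒳' : AlgSt.IsAlgStack Scheme.fppfPrecoverage 𝒳')
    (h𝒳 : AlgSt.IsAlgStack Scheme.fppfPrecoverage 𝒳) (g : 𝒳' ⥤ᵇ 𝒳)
    (hg : AlgSt.LocQ (AlgSp.LocP @Smooth) g) (Q : 𝒳.obj → Prop)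
    (hQiso : ObjectProperty.IsClosedUnderIsomorphisms Q)
    (hQalg : AlgSt.IsAlgStack Scheme.fppfPrecoverage (AlgSt.fullSub 𝒳 Q)) :
    AlgSt.LocQ (AlgSp.LocP @Smooth)
      (corestrict (BasedFunctor.comp (AlgSt.subIncl 𝒳' (fun a => Q (g.obj a))) g) Q
        (fun A => A.property)) := by
  have hE := fpSubCmp_isEquivOver g Q hQiso
  have h3 : AlgSt.LocQ (AlgSp.LocP @Smooth) (FibCat.fpFst (AlgSt.subIncl 𝒳 Q) g) :=
    locQ_fpFst isSmoothStable_locP_smooth (stableBC_locP _) h𝒳' h𝒳 hQalg g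
      (AlgSt.subIncl 𝒳 Q) hg
  have h4 : AlgSt.LocQ (AlgSp.LocP @Smooth) (FibCat.fpSnd g (AlgSt.subIncl 𝒳 Q)) :=
    locQ_equiv_comp (FpSwap.fpSwap g (AlgSt.subIncl 𝒳 Q)) (FpSwap.fpSwap_isEquivOver _ _) _ h3
  exact locQ_equiv_comp (fpSubCmp g Q) hE _ h4

/-- Open immersions are smooth on chart squares. -/
theorem locQ_smooth_of_isOpenImm (h𝒳 : AlgSt.IsAlgStack Scheme.fppfPrecoverage 𝒳)
    (h𝒴 : AlgSt.IsAlgStack Scheme.fppfPrecoverage 𝒴) (f : 𝒳 ⥤ᵇ 𝒴) (hf : AlgSt.IsOpenImm f) :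
    AlgSt.LocQ (AlgSp.LocP @Smooth) f :=
  locQ_locP_of_repByAlgSpWith_repWith @Smooth @IsOpenImmersion isSmoothLocalST_locP_smooth
    (fun _ _ g hg => by haveI : IsOpenImmersion g := hg; infer_instance) h𝒳 h𝒴 f hf

/-- **Smoothness descends along smooth images.**  If `f ∘ g` is smooth on the open substack `Q'`
of the source of a smooth `g`, then `f` is smooth on an open substack containing `g (Q')`. -/
theorem exists_open_smooth_of_precomp (h𝒳' : AlgSt.IsAlgStack Scheme.fppfPrecoverage 𝒳')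
    (h𝒳 : AlgSt.IsAlgStack Scheme.fppfPrecoverage 𝒳)
    (h𝒴 : AlgSt.IsAlgStack Scheme.fppfPrecoverage 𝒴)
    (g : 𝒳' ⥤ᵇ 𝒳) (hg : AlgSt.LocQ (AlgSp.LocP @Smooth) g) (f : 𝒳 ⥤ᵇ 𝒴)
    (Q' : 𝒳'.obj → Prop) (hQ' : AlgSt.IsOpenSubstack 𝒳' Q' Scheme.fppfPrecoverage)
    (hloc : AlgSt.LocQ (AlgSp.LocP @Smooth)
      (BasedFunctor.comp (AlgSt.subIncl 𝒳' Q') (BasedFunctor.comp g f))) :
    ∃ Q'' : 𝒳.obj → Prop, AlgSt.IsOpenSubstack 𝒳 Q'' Scheme.fppfPrecoverage ∧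
      AlgSt.LocQ (AlgSp.LocP @Smooth) (BasedFunctor.comp (AlgSt.subIncl 𝒳 Q'') f) ∧
      ∀ a, Q' a → Q'' (g.obj a) := by
  have hst := isSmoothStable_locP_smooth (S := S)
  obtain ⟨U', a₀, ha1, ha2⟩ := hQ'.2.1.atlas
  have hU' := isAlgStack_overCat U'
  let G : AlgSt.fullSub 𝒳' Q' ⥤ᵇ 𝒳 := BasedFunctor.comp (AlgSt.subIncl 𝒳' Q') g
  have hG : AlgSt.LocQ (AlgSp.LocP @Smooth) G :=
    locQ_comp hst (stableComp_locP _) hQ'.2.1 h𝒳' h𝒳 _ _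
      (locQ_smooth_of_isOpenImm hQ'.2.1 h𝒳' _ hQ'.2.2) hg
  have ha0 : AlgSt.LocQ (AlgSp.LocP @Smooth) a₀ :=
    locQ_locP_of_repByAlgSpWith @Smooth isSmoothLocalST_locP_smooth hU' hQ'.2.1 a₀ ha1
  let b : FibCat.overCat U' ⥤ᵇ 𝒳 := BasedFunctor.comp a₀ G
  have hbq : AlgSt.LocQ (AlgSp.LocP @Smooth) b :=
    locQ_comp hst (stableComp_locP _) hU' hQ'.2.1 h𝒳 _ _ ha0 hG
  have hb : Sm b :=
    (locQ_iff_repByAlgSpWith isSmoothLocalST_locP_smooth (stableBC_locP _)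
      (isLocalOnBase_fppf_locP @Smooth) hU' h𝒳 b (repByAlgSp1_chart h𝒳 b)).1 hbq
  obtain ⟨hobj, hsub, hsm, hsj⟩ := exists_image_of_smooth hU' h𝒳 b hb
  refine ⟨PtsIn (Set.range (AlgSt.Points.map b)), hsub, ?_, ?_⟩
  · refine locQ_of_precomp_sm_sj hU'.isStack.1 (corestrict b _ hobj) _ hsm hsj ?_
    exact locQ_comp hst (stableComp_locP _) hU' hQ'.2.1 h𝒴 a₀ _ ha0 hloc
  · intro a ha
    have h1 := ptsIn_range_obj hQ'.2.1.isStack.1 h𝒳.isStack.1 G ⟨a, ha⟩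
    refine ptsIn_mono ?_ _ h1
    rintro _ ⟨w, rfl⟩
    obtain ⟨v, rfl⟩ := isSurjective_of_repByAlgSpWith hQ'.2.1.isStack.1 a₀ ha2 w
    exact ⟨v, Pts.map_comp a₀ G v⟩

/-- **`S19902`: the smooth locus commutes with smooth precomposition.** -/
theorem smooth_locus_precomp (h𝒳' : AlgSt.IsAlgStack Scheme.fppfPrecoverage 𝒳')
    (h𝒳 : AlgSt.IsAlgStack Scheme.fppfPrecoverage 𝒳)
    (h𝒴 : AlgSt.IsAlgStack Scheme.fppfPrecoverage 𝒴)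
    (g : 𝒳' ⥤ᵇ 𝒳) (hg : AlgSt.LocQ (AlgSp.LocP @Smooth) g) (f : 𝒳 ⥤ᵇ 𝒴)
    (Q : 𝒳.obj → Prop) (hQ₁ : AlgSt.IsOpenSubstack 𝒳 Q Scheme.fppfPrecoverage)
    (hQ₂ : AlgSt.LocQ (AlgSp.LocP @Smooth) (BasedFunctor.comp (AlgSt.subIncl 𝒳 Q) f))
    (hQ₃ : ∀ Q' : 𝒳.obj → Prop, AlgSt.IsOpenSubstack 𝒳 Q' Scheme.fppfPrecoverage →
      AlgSt.LocQ (AlgSp.LocP @Smooth) (BasedFunctor.comp (AlgSt.subIncl 𝒳 Q') f) →
      ∀ a, Q' a → Q a) :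
    AlgSt.IsOpenSubstack 𝒳' (fun a ↦ Q (g.obj a)) Scheme.fppfPrecoverage ∧
      AlgSt.LocQ (AlgSp.LocP @Smooth)
        (BasedFunctor.comp (AlgSt.subIncl 𝒳' (fun a ↦ Q (g.obj a))) (BasedFunctor.comp g f)) ∧
      ∀ Q' : 𝒳'.obj → Prop, AlgSt.IsOpenSubstack 𝒳' Q' Scheme.fppfPrecoverage →
        AlgSt.LocQ (AlgSp.LocP @Smooth)
          (BasedFunctor.comp (AlgSt.subIncl 𝒳' Q') (BasedFunctor.comp g f)) →
        ∀ a, Q' a → Q (g.obj a) := by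
  have hpre := isOpenSubstack_preimage h𝒳 h𝒳' Q hQ₁ g
  refine ⟨hpre, ?_, ?_⟩
  · have h5 := locQ_smooth_corestrict_preimage h𝒳' h𝒳 g hg Q hQ₁.1 hQ₁.2.1
    exact locQ_comp isSmoothStable_locP_smooth (stableComp_locP _) hpre.2.1 hQ₁.2.1 h𝒴 _ _ h5 hQ₂
  · intro Q' hQ' hloc a ha
    obtain ⟨Q'', hQ''1, hQ''2, hQ''3⟩ := exists_open_smooth_of_precomp h𝒳' h𝒳 h𝒴 g hg f Q' hQ' hloc
    exact hQ₃ Q'' hQ''1 hQ''2 _ (hQ''3 a ha)

end Groth.Agent.Helper2.AlgStLib.Substack
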