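import Mathlib
import Groth.Prelude.Def_AlgSt4
import Groth.Prelude.Def_AlgSpCov
import Groth.Agent.Lib.Helper2.AlgSt.Substack.Image
import Groth.Agent.Lib.Helper2.AlgSt.Substack.ImmNoeth
import Groth.Agent.Lib.Helper2.AlgSt.QC2
import Groth.Agent.Lib.Helper2.AlgSt.Pts.QC
import Groth.Agent.Lib.Helper2.AlgSt.LocQ.BaseChange
import Groth.Agent.Lib.Helper2.AlgSt.Substack.SmoothLocusPrecomp

/-!
# Quasi-compact morphisms are detected on quasi-compact open substacks (helper2)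
-/

set_option autoImplicit false
open CategoryTheory CategoryTheory.Functor CategoryTheory.Limits AlgebraicGeometry Opposite

universe u

namespace Groth.Agent.Helper2.AlgStLib.Substack

open Groth.Agent.Helper2 Groth.Agent.Helper2.FibCatLib Groth.Agent.Helper2.StkLib
open Groth.Agent.Helper2.AlgSpBasic Groth.Agent.Helper2.EtaleLocal
open Groth.Agent.Helper2.AlgStLib Groth.Agent.Helper2.AlgStLib.Pts
open Groth.Agent.Helper2.AlgStLib.LocQ AlgSp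

variable {S : Scheme.{u}} {𝒳 𝒴 𝒵 : BasedCategory.{u, u + 1} (Over S)}

/-- A compact subset of the space of points of an algebraic stack is contained in a compact
open subset. -/
theorem exists_isOpen_isCompact_superset (h𝒴 : AlgSt.IsAlgStack Scheme.fppfPrecoverage 𝒴)
    (K : Set (AlgSt.Points 𝒴)) (hK : IsCompact K) :
    ∃ T : Set (AlgSt.Points 𝒴), IsOpen T ∧ IsCompact T ∧ K ⊆ T := by
  choose V hV1 hV2 hV3 _ using fun x : AlgSt.Points 𝒴 =>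
    exists_isOpen_isCompact_nhd h𝒴 x Set.univ isOpen_univ (Set.mem_univ x)
  obtain ⟨t, ht⟩ := hK.elim_finite_subcover V hV1 (fun x _ => Set.mem_iUnion.2 ⟨x, hV3 x⟩)
  exact ⟨⋃ i ∈ t, V i, isOpen_biUnion fun i _ => hV1 i,
    t.finite_toSet.isCompact_biUnion fun i _ => hV2 i, ht⟩

/-- The open substack on a compact open subset of the space of points is quasi-compact. -/
theorem isQuasiCompact_fullSub_ptsIn (h𝒴 : AlgSt.IsAlgStack Scheme.fppfPrecoverage 𝒴)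
    (T : Set (AlgSt.Points 𝒴)) (hT : IsOpen T) (hTc : IsCompact T) :
    AlgSt.IsQuasiCompact (AlgSt.fullSub 𝒴 (PtsIn T)) := by
  have hsub := isOpenSubstack_ptsIn h𝒴 T hT
  rw [isQuasiCompact_iff_compactSpace hsub.2.1]
  have hinj := injective_map_subIncl h𝒴.isStack.1 (PtsIn T) (fun φ h => ptsIn_of_hom φ h)
  have hopen : IsOpenMap (AlgSt.Points.map (AlgSt.subIncl 𝒴 (PtsIn T))) :=
    isOpenMor_of_isOpenImm hsub.2.1 h𝒴 _ hsub.2.2
  have hcont := continuous_map (𝒳 := AlgSt.fullSub 𝒴 (PtsIn T)) h𝒴 (AlgSt.subIncl 𝒴 (PtsIn T))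
  have hemb : Topology.IsOpenEmbedding (AlgSt.Points.map (AlgSt.subIncl 𝒴 (PtsIn T))) :=
    Topology.IsOpenEmbedding.of_continuous_injective_isOpenMap hcont hinj hopen
  refine ⟨?_⟩
  rw [hemb.isEmbedding.isCompact_iff, Set.image_univ, range_map_subIncl_ptsIn]
  exact hTc

/-- A morphism to a stack quasi-separated over a quasi-separated base is quasi-compact as soon
as its restrictions over the quasi-compact open substacks `PtsIn T` have quasi-compact source. -/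
theorem isQuasiCompactMor_of_forall_ptsIn [QuasiSeparatedSpace ↥S]
    (h𝒳 : AlgSt.IsAlgStack Scheme.fppfPrecoverage 𝒳)
    (h𝒴 : AlgSt.IsAlgStack Scheme.fppfPrecoverage 𝒴)
    (h𝒴d : AlgSt.RepByAlgSpWith (AlgSp.IsSeparatedMor ⊓ AlgSp.IsQuasiCompactMor)
      (FibCat.diag (FibCat.toSelf 𝒴))) (f : 𝒳 ⥤ᵇ 𝒴)
    (H : ∀ T : Set (AlgSt.Points 𝒴), IsOpen T → IsCompact T →
      AlgSt.IsQuasiCompact (FibCat.fp (AlgSt.subIncl 𝒴 (PtsIn T)) f)) :
    AlgSt.IsQuasiCompactMor Scheme.fppfPrecoverage f := by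
  intro 𝒵 h𝒵 hq g
  have hqs : AlgSt.IsQuasiSeparatedOver 𝒴 :=
    repByAlgSpWith_mono (fun A B m hm => ⟨hm.2, repWith_mono
      (fun _ _ g (hg : IsClosedImmersion g) => (inferInstance : QuasiCompact g)) hm.1⟩) _ h𝒴d
  haveI := compactSpace_of_isQuasiCompact h𝒵 hq
  have hK : IsCompact (Set.range (AlgSt.Points.map g)) :=
    isCompact_range (continuous_map h𝒴 g)
  obtain ⟨T, hT, hTc, hKT⟩ := exists_isOpen_isCompact_superset h𝒴 _ hK
  have hsub := isOpenSubstack_ptsIn h𝒴 T hT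
  have hobj : ∀ a, PtsIn T (g.obj a) := fun a =>
    ptsIn_mono hKT _ (ptsIn_range_obj h𝒵.isStack.1 h𝒴.isStack.1 g a)
  let g' : 𝒵 ⥤ᵇ AlgSt.fullSub 𝒴 (PtsIn T) := corestrict g (PtsIn T) hobj
  let j : AlgSt.fullSub 𝒴 (PtsIn T) ⥤ᵇ 𝒴 := AlgSt.subIncl 𝒴 (PtsIn T)
  have h1 : AlgSt.IsQuasiCompact (FibCat.fp j f) := H T hT hTc
  have h𝒫 : AlgSt.IsAlgStack Scheme.fppfPrecoverage (FibCat.fp j f) :=
    isAlgStack_fp _ hsub.2.1 h𝒳 h𝒴 j f
  have hmono : AlgSt.IsMono j :=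
    repByAlgSpWith_mono (fun _ _ m hm => mono_of_repWith_isOpenImmersion m hm) j hsub.2.2
  have hqs' : AlgSt.IsQuasiSeparatedOver (AlgSt.fullSub 𝒴 (PtsIn T)) :=
    isQuasiSeparatedOver_of_isMono hsub.2.1.isStack.1 h𝒴.isStack.1 j hmono hqs
  have h2 : AlgSt.IsQuasiCompactMor Scheme.fppfPrecoverage (FibCat.fpFst j f) :=
    isQuasiCompactMor_of_isQuasiCompact_of_isQuasiSeparatedOver h𝒫 hsub.2.1 _ h1 hqs'
  have h3 : AlgSt.IsQuasiCompact (FibCat.fp g' (FibCat.fpFst j f)) := h2 𝒵 h𝒵 hq g'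
  have h4 : AlgSt.IsQuasiCompact (FibCat.fp (FibCat.fpFst j f) g') :=
    isQuasiCompact_of_isEquivOver (FpSwap.fpSwap g' (FibCat.fpFst j f))
      (FpSwap.fpSwap_isEquivOver _ _) h3
  have h5 : AlgSt.IsQuasiCompact (FibCat.fp f (BasedFunctor.comp g' j)) :=
    isQuasiCompact_of_isEquivOver (bcEquiv j f g') (bcEquiv_isEquivOver j f g') h4
  exact isQuasiCompact_of_isEquivOver (FpSwap.fpSwap f (BasedFunctor.comp g' j))
    (FpSwap.fpSwap_isEquivOver _ _) h5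

/-- **`S15482`.** -/
theorem isQuasiCompactMor_iff_forall_openImm [QuasiSeparatedSpace ↥S]
    (h𝒳 : AlgSt.IsAlgStack Scheme.fppfPrecoverage 𝒳)
    (h𝒴 : AlgSt.IsAlgStack Scheme.fppfPrecoverage 𝒴)
    (h𝒴d : AlgSt.RepByAlgSpWith (AlgSp.IsSeparatedMor ⊓ AlgSp.IsQuasiCompactMor)
      (FibCat.diag (FibCat.toSelf 𝒴))) (f : 𝒳 ⥤ᵇ 𝒴) :
    AlgSt.IsQuasiCompactMor Scheme.fppfPrecoverage f ↔
      ∀ (𝒴' : AlgSt.Cat S), AlgSt.IsAlgStack Scheme.fppfPrecoverage 𝒴' →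
        AlgSt.IsQuasiCompact 𝒴' → ∀ (j : 𝒴' ⥤ᵇ 𝒴), AlgSt.IsOpenImm j →
          AlgSt.IsQuasiCompact (FibCat.fp j f) := by
  constructor
  · intro h 𝒴' h𝒴' hq j _
    exact h 𝒴' h𝒴' hq j
  · intro H
    refine isQuasiCompactMor_of_forall_ptsIn h𝒳 h𝒴 h𝒴d f fun T hT hTc => ?_
    have hsub := isOpenSubstack_ptsIn h𝒴 T hT
    exact H _ hsub.2.1 (isQuasiCompact_fullSub_ptsIn h𝒴 T hT hTc) _ hsub.2.2

/-- An open substack is quasi-compact if and only if its set of points is compact. -/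
theorem isQuasiCompact_fullSub_iff (h𝒴 : AlgSt.IsAlgStack Scheme.fppfPrecoverage 𝒴)
    (Q : 𝒴.obj → Prop) (hQ : AlgSt.IsOpenSubstack 𝒴 Q Scheme.fppfPrecoverage) :
    AlgSt.IsQuasiCompact (AlgSt.fullSub 𝒴 Q) ↔
      IsCompact (Set.range (AlgSt.Points.map (AlgSt.subIncl 𝒴 Q))) := by
  rw [isQuasiCompact_iff_compactSpace hQ.2.1]
  have hinj := injective_map_subIncl h𝒴.isStack.1 Q
    (fun φ h => of_hom_of_isFibGrpd_fullSub Q hQ.1 h𝒴.isStack.1 hQ.2.1.isStack.1 φ h)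
  have hopen : IsOpenMap (AlgSt.Points.map (AlgSt.subIncl 𝒴 Q)) :=
    isOpenMor_of_isOpenImm hQ.2.1 h𝒴 _ hQ.2.2
  have hcont := continuous_map (𝒳 := AlgSt.fullSub 𝒴 Q) h𝒴 (AlgSt.subIncl 𝒴 Q)
  have hemb : Topology.IsOpenEmbedding (AlgSt.Points.map (AlgSt.subIncl 𝒴 Q)) :=
    Topology.IsOpenEmbedding.of_continuous_injective_isOpenMap hcont hinj hopen
  rw [← Set.image_univ, ← hemb.isEmbedding.isCompact_iff]
  exact ⟨fun h => h.1, fun h => ⟨h⟩⟩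

/-- The source of the restriction of `f` over the open substack `PtsIn T` is quasi-compact if
and only if the inverse image of `T` is compact. -/
theorem isQuasiCompact_fp_subIncl_ptsIn_iff (h𝒳 : AlgSt.IsAlgStack Scheme.fppfPrecoverage 𝒳)
    (h𝒴 : AlgSt.IsAlgStack Scheme.fppfPrecoverage 𝒴) (f : 𝒳 ⥤ᵇ 𝒴)
    (T : Set (AlgSt.Points 𝒴)) (hT : IsOpen T) :
    AlgSt.IsQuasiCompact (FibCat.fp (AlgSt.subIncl 𝒴 (PtsIn T)) f) ↔
      IsCompact (AlgSt.Points.map f ⁻¹' T) := by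
  have hsub := isOpenSubstack_ptsIn h𝒴 T hT
  have hpre := isOpenSubstack_preimage h𝒴 h𝒳 (PtsIn T) hsub f
  have hE := fpSubCmp_isEquivOver f (PtsIn T) hsub.1
  rw [← isQuasiCompact_iff_of_isEquivOver (FpSwap.fpSwap f (AlgSt.subIncl 𝒴 (PtsIn T)))
    (FpSwap.fpSwap_isEquivOver _ _),
    ← isQuasiCompact_iff_of_isEquivOver (fpSubCmp f (PtsIn T)) hE,
    isQuasiCompact_fullSub_iff h𝒳 _ hpre,
    range_map_subIncl_preimage h𝒴.isStack.1 h𝒳.isStack.1 (PtsIn T) hsub.1 hsub.2.1.isStack.1 f,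
    range_map_subIncl_ptsIn]

end Groth.Agent.Helper2.AlgStLib.Substack
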